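import Groth.Agent.GrpQ.H777.ERelGrpd
import Groth.Agent.Sga3.H775.ActGrpd
import Mathlib.AlgebraicGeometry.Morphisms.UniversallyOpen

/-!
# The image of `(g, x) ↦ (g x, x)` is an equivalence relation
-/

set_option autoImplicit false

universe u

open CategoryTheory CategoryTheory.Limits MonoidalCategory CartesianMonoidalCategory MonObj GrpObj AlgebraicGeometry

namespace Groth.Agent.GrpQ.H777.ActERel

open Groth.Agent.Sga3C.QuotRel ERelGrpd Groth.Agent.Sga3.H775.ActGrpd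

section generic

variable {P R U : Scheme.{u}} (G : Grpd.GroupoidScheme.{u} P) (ψ : G.R ⟶ R) (t s : R ⟶ G.U)

theorem grpd_symm {T : Scheme.{u}} {a b : T ⟶ G.U} (h : Rel G.t G.s a b) : Rel G.t G.s b a := by
  obtain ⟨r, rfl, rfl⟩ := h
  exact ⟨r ≫ G.i, by rw [Category.assoc, G.i_t], by rw [Category.assoc, G.i_s]⟩

theorem grpd_refl {T : Scheme.{u}} (a : T ⟶ G.U) : Rel G.t G.s a a :=
  ⟨a ≫ G.e, by rw [Category.assoc, G.e_t, Category.comp_id],
    by rw [Category.assoc, G.e_s, Category.comp_id]⟩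

theorem grpd_trans {T : Scheme.{u}} {a b c : T ⟶ G.U} (h : Rel G.t G.s a b)
    (h' : Rel G.t G.s b c) : Rel G.t G.s a c := by
  obtain ⟨r, rfl, rfl⟩ := h
  obtain ⟨r', h1, rfl⟩ := h'
  exact ⟨pullback.lift r r' h1.symm ≫ G.c, G.comp_t _ _ _, G.comp_s _ _ _⟩

variable {G ψ t s}

theorem exists_cover (ht : ψ ≫ t = G.t) (hs : ψ ≫ s = G.s) [Surjective ψ] [Flat ψ]
    [LocallyOfFinitePresentation ψ] {T : Scheme.{u}} {a b : T ⟶ G.U} (h : Rel t s a b) :
    ∃ (T' : Scheme.{u}) (π : T' ⟶ T), Surjective π ∧ Flat π ∧ LocallyOfFinitePresentation π ∧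
      Rel G.t G.s (π ≫ a) (π ≫ b) := by
  obtain ⟨r, rfl, rfl⟩ := h
  refine ⟨pullback r ψ, pullback.fst r ψ, inferInstance, inferInstance, inferInstance,
    pullback.snd r ψ, ?_, ?_⟩
  · rw [← ht, pullback.condition_assoc]
  · rw [← hs, pullback.condition_assoc]

theorem rel_of_grpd (ht : ψ ≫ t = G.t) (hs : ψ ≫ s = G.s) {T : Scheme.{u}} {a b : T ⟶ G.U}
    (h : Rel G.t G.s a b) : Rel t s a b := by
  obtain ⟨r, rfl, rfl⟩ := h
  exact ⟨r ≫ ψ, by rw [Category.assoc, ht], by rw [Category.assoc, hs]⟩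

/-- The image of a groupoid is an equivalence relation. -/
theorem isERel (ht : ψ ≫ t = G.t) (hs : ψ ≫ s = G.s) [Surjective ψ] [Flat ψ]
    [LocallyOfFinitePresentation ψ]
    (hm : ∀ {T : Scheme.{u}} (x y : T ⟶ R), x ≫ t = y ≫ t → x ≫ s = y ≫ s → x = y) :
    IsERel t s where
  mono := hm
  refl a := rel_of_grpd ht hs (grpd_refl G a)
  symm h := by
    obtain ⟨T', π, _, _, _, h'⟩ := exists_cover ht hs h
    exact rel_descend hm π (rel_of_grpd ht hs (grpd_symm G h'))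
  trans {T a b c} h1 h2 := by
    obtain ⟨T₁, π₁, _, _, _, h1'⟩ := exists_cover ht hs h1
    obtain ⟨T₂, π₂, _, _, _, h2'⟩ := exists_cover ht hs h2
    have e : pullback.snd π₁ π₂ ≫ π₂ = pullback.fst π₁ π₂ ≫ π₁ := pullback.condition.symm
    have h1'' := h1'.precomp (pullback.fst π₁ π₂)
    have h2'' := h2'.precomp (pullback.snd π₁ π₂)
    rw [← Category.assoc, ← Category.assoc] at h1''
    rw [← Category.assoc, ← Category.assoc, e] at h2''
    exact rel_descend hm (pullback.fst π₁ π₂ ≫ π₁) (rel_of_grpd ht hs (grpd_trans G h1'' h2''))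

end generic

end Groth.Agent.GrpQ.H777.ActERel
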