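import Groth.Agent.Sga3C.QuotRel
import Groth.Prelude.Def_Grpd

/-!
# The groupoid scheme of an equivalence relation
-/

set_option autoImplicit false

universe u

open CategoryTheory CategoryTheory.Limits AlgebraicGeometry

namespace Groth.Agent.GrpQ.H777.ERelGrpd

open Groth.Agent.Sga3C.QuotRel

variable {S U R : Scheme.{u}} {t s : R ⟶ U}

section data

variable (h : IsERel t s)

include h

/-- identity -/
noncomputable def eMap : U ⟶ R := (h.refl (𝟙 U)).choose

theorem eMap_t : eMap h ≫ t = 𝟙 U := (h.refl (𝟙 U)).choose_spec.1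

theorem eMap_s : eMap h ≫ s = 𝟙 U := (h.refl (𝟙 U)).choose_spec.2

theorem exists_iMap : Rel t s s t :=
  h.symm ⟨𝟙 R, Category.id_comp _, Category.id_comp _⟩

/-- inverse -/
noncomputable def iMap : R ⟶ R := (exists_iMap h).choose

theorem iMap_t : iMap h ≫ t = s := (exists_iMap h).choose_spec.1

theorem iMap_s : iMap h ≫ s = t := (exists_iMap h).choose_spec.2

theorem exists_cMap : Rel t s (pullback.fst s t ≫ t) (pullback.snd s t ≫ s) :=
  h.trans ⟨pullback.fst s t, rfl, rfl⟩ (by
    rw [pullback.condition]; exact ⟨pullback.snd s t, rfl, rfl⟩)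

/-- composition -/
noncomputable def cMap : pullback s t ⟶ R := (exists_cMap h).choose

theorem cMap_t : cMap h ≫ t = pullback.fst s t ≫ t := (exists_cMap h).choose_spec.1

theorem cMap_s : cMap h ≫ s = pullback.snd s t ≫ s := (exists_cMap h).choose_spec.2

theorem lift_cMap_s {T : Scheme.{u}} (α β : T ⟶ R) (hh : α ≫ s = β ≫ t) :
    (pullback.lift α β hh ≫ cMap h) ≫ s = β ≫ s := by
  rw [Category.assoc, cMap_s, pullback.lift_snd_assoc]

theorem lift_cMap_t {T : Scheme.{u}} (α β : T ⟶ R) (hh : α ≫ s = β ≫ t) :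
    (pullback.lift α β hh ≫ cMap h) ≫ t = α ≫ t := by
  rw [Category.assoc, cMap_t, pullback.lift_fst_assoc]

end data

/-- The groupoid scheme of a monomorphic equivalence relation. -/
noncomputable def ofERel (pU : U ⟶ S) (h : IsERel t s) (hS : t ≫ pU = s ≫ pU) :
    Grpd.GroupoidScheme S where
  U := U
  R := R
  pU := pU
  pR := s ≫ pU
  s := s
  t := t
  e := eMap h
  i := iMap h
  c := cMap h
  s_over := rfl
  t_over := hS
  comp_s := lift_cMap_s h
  comp_t := lift_cMap_t h
  assoc := by
    intro T α β γ h₁ h₂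
    apply h.mono
    · rw [lift_cMap_t, lift_cMap_t, lift_cMap_t]
    · rw [lift_cMap_s, lift_cMap_s, lift_cMap_s]
  e_s := eMap_s h
  e_t := eMap_t h
  comp_e := by
    intro T α
    apply h.mono
    · rw [lift_cMap_t]
    · rw [lift_cMap_s, Category.assoc, Category.assoc, eMap_s, Category.comp_id]
  e_comp := by
    intro T α
    apply h.mono
    · rw [lift_cMap_t, Category.assoc, Category.assoc, eMap_t, Category.comp_id]
    · rw [lift_cMap_s]
  i_s := iMap_s h
  i_t := iMap_t h
  comp_i := by
    intro T α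
    apply h.mono
    · rw [lift_cMap_t, Category.assoc, Category.assoc, eMap_t, Category.comp_id]
    · rw [lift_cMap_s, Category.assoc, iMap_s, Category.assoc, Category.assoc, eMap_s,
        Category.comp_id]
  i_comp := by
    intro T α
    apply h.mono
    · rw [lift_cMap_t, Category.assoc, iMap_t, Category.assoc, Category.assoc, eMap_t,
        Category.comp_id]
    · rw [lift_cMap_s, Category.assoc, Category.assoc, eMap_s, Category.comp_id]

/-- `j = (t, s)` is a monomorphism. -/
theorem mono_j (pU : U ⟶ S) (h : IsERel t s) (hS : t ≫ pU = s ≫ pU) : Mono (ofERel pU h hS).j := by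
  have h1 : (ofERel pU h hS).j ≫ pullback.fst (ofERel pU h hS).pU (ofERel pU h hS).pU = t :=
    pullback.lift_fst _ _ _
  have h2 : (ofERel pU h hS).j ≫ pullback.snd (ofERel pU h hS).pU (ofERel pU h hS).pU = s :=
    pullback.lift_snd _ _ _
  constructor
  intro T a b hab
  apply h.mono (T := T) a b
  · have e : (a ≫ (ofERel pU h hS).j) ≫ pullback.fst _ _ =
      (b ≫ (ofERel pU h hS).j) ≫ pullback.fst _ _ := congrArg (· ≫ pullback.fst _ _) hab
    rw [Category.assoc, Category.assoc] at e
    rw [h1] at e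
    exact e
  · have e : (a ≫ (ofERel pU h hS).j) ≫ pullback.snd _ _ =
      (b ≫ (ofERel pU h hS).j) ≫ pullback.snd _ _ := congrArg (· ≫ pullback.snd _ _) hab
    rw [Category.assoc, Category.assoc] at e
    rw [h2] at e
    exact e

/-- Being related can be checked on covers, given joint monomorphy only. -/
theorem rel_descend (hm : ∀ {T : Scheme.{u}} (x y : T ⟶ R), x ≫ t = y ≫ t → x ≫ s = y ≫ s → x = y)
    {T T' : Scheme.{u}} {a b : T ⟶ U} (π : T' ⟶ T) [EffectiveEpi π] (h : Rel t s (π ≫ a) (π ≫ b)) :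
    Rel t s a b := by
  obtain ⟨r, hr1, hr2⟩ := h
  obtain ⟨l, hl⟩ := exists_desc π r (fun x y hxy => hm _ _ (by
    rw [Category.assoc, Category.assoc, hr1, reassoc_of% hxy]) (by
    rw [Category.assoc, Category.assoc, hr2, reassoc_of% hxy]))
  refine ⟨l, ?_, ?_⟩
  · rw [← cancel_epi π, reassoc_of% hl, hr1]
  · rw [← cancel_epi π, reassoc_of% hl, hr2]

end Groth.Agent.GrpQ.H777.ERelGrpd
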