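import Mathlib.AlgebraicGeometry.Sites.Fpqc
import Mathlib.CategoryTheory.Limits.Shapes.Equalizers

/-!
# Transport of quotients

`i : X' ⟶ X` an open immersion with saturated image for `d₀ d₁ : P ⟶ X`, `P' ⊆ P` the arrows over
`X'`, `ψ : P' ⟶ R` an fppf cover compatible with `t s : R ⟶ X'`.  A coequalizer of `t, s` over a
saturated open `W` of `X'` is a coequalizer of `d₀, d₁` over the image of `W`.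
-/

set_option autoImplicit false

universe u

open CategoryTheory CategoryTheory.Limits AlgebraicGeometry

namespace Groth.Agent.GrpQ.H777.Transport

variable {P X P' X' R : Scheme.{u}} {d₀ d₁ : P ⟶ X} {e₀ e₁ : P' ⟶ X'} {t s : R ⟶ X'}
  {κ : P' ⟶ P} {i : X' ⟶ X} [IsOpenImmersion κ] [IsOpenImmersion i] {ψ : P' ⟶ R}
  {W : X'.Opens}

theorem preimage_image (h₀ : κ ≫ d₀ = e₀ ≫ i) (hr₀ : d₀ ⁻¹ᵁ i.opensRange ≤ κ.opensRange)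
    (hψ₀ : ψ ≫ t = e₀) : d₀ ⁻¹ᵁ (i ''ᵁ W) = κ ''ᵁ (ψ ⁻¹ᵁ (t ⁻¹ᵁ W)) := by
  ext y
  constructor
  · rintro ⟨w, hw, hwy⟩
    obtain ⟨y', rfl⟩ := hr₀ (show y ∈ d₀ ⁻¹ᵁ i.opensRange from ⟨w, hwy⟩)
    refine ⟨y', ?_, rfl⟩
    have h1 : i (e₀ y') = i w := by
      rw [← Scheme.Hom.comp_apply, ← h₀, Scheme.Hom.comp_apply]
      exact hwy.symm
    have h2 := i.isOpenEmbedding.injective h1
    change t (ψ y') ∈ W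
    rw [← Scheme.Hom.comp_apply, hψ₀, h2]
    exact hw
  · rintro ⟨y', hy', rfl⟩
    refine ⟨t (ψ y'), hy', ?_⟩
    rw [← Scheme.Hom.comp_apply, hψ₀]
    change i (e₀ y') = d₀ (κ y')
    rw [← Scheme.Hom.comp_apply, ← h₀, Scheme.Hom.comp_apply]

variable (h₀ : κ ≫ d₀ = e₀ ≫ i) (h₁ : κ ≫ d₁ = e₁ ≫ i)
  (hr₀ : d₀ ⁻¹ᵁ i.opensRange ≤ κ.opensRange) (hr₁ : d₁ ⁻¹ᵁ i.opensRange ≤ κ.opensRange)
  (hψ₀ : ψ ≫ t = e₀) (hψ₁ : ψ ≫ s = e₁) (hW : t ⁻¹ᵁ W = s ⁻¹ᵁ W)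

include h₀ h₁ hr₀ hr₁ hψ₀ hψ₁ hW

theorem image_saturated : d₀ ⁻¹ᵁ (i ''ᵁ W) = d₁ ⁻¹ᵁ (i ''ᵁ W) := by
  rw [preimage_image h₀ hr₀ hψ₀, preimage_image h₁ hr₁ hψ₁, hW]

omit h₀ hr₀ hψ₀ hW in
/-- the comparison from `ψ⁻¹ s⁻¹ W` to `d₁⁻¹ (i '' W)` -/
theorem exists_k : ∃ k : (ψ ⁻¹ᵁ (s ⁻¹ᵁ W) : P'.Opens).toScheme ⟶ (d₁ ⁻¹ᵁ (i ''ᵁ W) : P.Opens).toScheme,
    IsIso k ∧ k ≫ (d₁ ⁻¹ᵁ (i ''ᵁ W)).ι = (ψ ⁻¹ᵁ (s ⁻¹ᵁ W)).ι ≫ κ := by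
  refine ⟨(κ.isoImage _ ≪≫ P.isoOfEq (preimage_image h₁ hr₁ hψ₁).symm).hom, inferInstance, ?_⟩
  rw [Iso.trans_hom, Category.assoc, Scheme.isoOfEq_hom_ι, Scheme.Hom.isoImage_hom_ι]

theorem k_comp₀ (k : (ψ ⁻¹ᵁ (s ⁻¹ᵁ W) : P'.Opens).toScheme ⟶ (d₁ ⁻¹ᵁ (i ''ᵁ W) : P.Opens).toScheme)
    (hk : k ≫ (d₁ ⁻¹ᵁ (i ''ᵁ W)).ι = (ψ ⁻¹ᵁ (s ⁻¹ᵁ W)).ι ≫ κ) :
    k ≫ d₀.resLE (i ''ᵁ W) (d₁ ⁻¹ᵁ (i ''ᵁ W))
      (image_saturated h₀ h₁ hr₀ hr₁ hψ₀ hψ₁ hW).ge =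
      (ψ ∣_ (s ⁻¹ᵁ W)) ≫ t.resLE W (s ⁻¹ᵁ W) hW.ge ≫ (i.isoImage W).hom := by
  rw [← cancel_mono (i ''ᵁ W).ι]
  simp only [Category.assoc, Scheme.Hom.resLE_comp_ι, Scheme.Hom.isoImage_hom_ι]
  rw [reassoc_of% hk, h₀, Scheme.Hom.resLE_comp_ι_assoc, morphismRestrict_ι_assoc, reassoc_of% hψ₀]

omit h₀ hr₀ hr₁ hψ₀ hW [IsOpenImmersion κ] in
theorem k_comp₁ (k : (ψ ⁻¹ᵁ (s ⁻¹ᵁ W) : P'.Opens).toScheme ⟶ (d₁ ⁻¹ᵁ (i ''ᵁ W) : P.Opens).toScheme)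
    (hk : k ≫ (d₁ ⁻¹ᵁ (i ''ᵁ W)).ι = (ψ ⁻¹ᵁ (s ⁻¹ᵁ W)).ι ≫ κ) :
    k ≫ (d₁ ∣_ (i ''ᵁ W)) = (ψ ∣_ (s ⁻¹ᵁ W)) ≫ (s ∣_ W) ≫ (i.isoImage W).hom := by
  rw [← cancel_mono (i ''ᵁ W).ι]
  simp only [Category.assoc, morphismRestrict_ι, Scheme.Hom.isoImage_hom_ι]
  rw [reassoc_of% hk, h₁, morphismRestrict_ι_assoc, morphismRestrict_ι_assoc, reassoc_of% hψ₁]

theorem main [Surjective ψ] [Flat ψ] [LocallyOfFinitePresentation ψ] {V : Scheme.{u}}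
    (p : (W : Scheme.{u}) ⟶ V)
    (w : t.resLE W (s ⁻¹ᵁ W) hW.ge ≫ p = (s ∣_ W) ≫ p) (hp : Nonempty (IsColimit (Cofork.ofπ p w))) :
    ∃ w' : d₀.resLE (i ''ᵁ W) (d₁ ⁻¹ᵁ (i ''ᵁ W)) (image_saturated h₀ h₁ hr₀ hr₁ hψ₀ hψ₁ hW).ge ≫
        ((i.isoImage W).inv ≫ p) = (d₁ ∣_ (i ''ᵁ W)) ≫ ((i.isoImage W).inv ≫ p),
      Nonempty (IsColimit (Cofork.ofπ ((i.isoImage W).inv ≫ p) w')) := by
  obtain ⟨k, hk, hk'⟩ := exists_k (W := W) h₁ hr₁ hψ₁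
  have e0 := k_comp₀ h₀ h₁ hr₀ hr₁ hψ₀ hψ₁ hW k hk'
  have e1 := k_comp₁ (W := W) h₁ hψ₁ k hk'
  have w' : d₀.resLE (i ''ᵁ W) (d₁ ⁻¹ᵁ (i ''ᵁ W)) (image_saturated h₀ h₁ hr₀ hr₁ hψ₀ hψ₁ hW).ge ≫
        ((i.isoImage W).inv ≫ p) = (d₁ ∣_ (i ''ᵁ W)) ≫ ((i.isoImage W).inv ≫ p) := by
    rw [← cancel_epi k, reassoc_of% e0, reassoc_of% e1, Iso.hom_inv_id_assoc, w]
  refine ⟨w', ?_⟩
  obtain ⟨hc⟩ := hp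
  have hsurj : Surjective (ψ ∣_ (s ⁻¹ᵁ W)) := IsZariskiLocalAtTarget.restrict ‹_› _
  have hflat : Flat (ψ ∣_ (s ⁻¹ᵁ W)) := IsZariskiLocalAtTarget.restrict ‹_› _
  have hepi : Epi (ψ ∣_ (s ⁻¹ᵁ W)) := Flat.epi_of_flat_of_surjective _
  refine ⟨Cofork.IsColimit.mk' _ fun c => ?_⟩
  have hcc : t.resLE W (s ⁻¹ᵁ W) hW.ge ≫ ((i.isoImage W).hom ≫ c.π) =
      (s ∣_ W) ≫ ((i.isoImage W).hom ≫ c.π) := by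
    rw [← cancel_epi (ψ ∣_ (s ⁻¹ᵁ W))]
    have h2 := congrArg (fun x => x ≫ c.π) e0
    have h3 := congrArg (fun x => x ≫ c.π) e1
    simp only [Category.assoc] at h2 h3
    rw [← h2, ← h3, c.condition]
  refine ⟨hc.desc (Cofork.ofπ _ hcc), ?_, ?_⟩
  · have h2 : p ≫ hc.desc (Cofork.ofπ _ hcc) = (i.isoImage W).hom ≫ c.π :=
      hc.fac (Cofork.ofπ _ hcc) WalkingParallelPair.one
    change ((i.isoImage W).inv ≫ p) ≫ _ = _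
    rw [Category.assoc, h2, Iso.inv_hom_id_assoc]
  · intro m hm
    have hm' : ((i.isoImage W).inv ≫ p) ≫ m = c.π := hm
    apply Cofork.IsColimit.hom_ext hc
    have h2 : p ≫ hc.desc (Cofork.ofπ _ hcc) = (i.isoImage W).hom ≫ c.π :=
      hc.fac (Cofork.ofπ _ hcc) WalkingParallelPair.one
    change p ≫ m = p ≫ _
    rw [h2, ← hm', Category.assoc, Iso.hom_inv_id_assoc]

omit [IsOpenImmersion κ] [IsOpenImmersion i] h₀ h₁ hr₀ hr₁ hψ₀ hψ₁ hW in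
theorem dense_image_of {i : X' ⟶ X} [IsOpenImmersion i] (hd : DenseRange i) (hWd : Dense (W : Set X')) :
    Dense ((i ''ᵁ W : X.Opens) : Set X) :=
  hd.dense_image i.continuous hWd

/-- a dense saturated open with a good quotient is transported along `i` -/
theorem final [Surjective ψ] [Flat ψ] [LocallyOfFinitePresentation ψ] {S V : Scheme.{u}}
    (f : X ⟶ S) (hd : DenseRange i) (hWd : Dense (W : Set X'))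
    (p : (W : Scheme.{u}) ⟶ V)
    (w : t.resLE W (s ⁻¹ᵁ W) hW.ge ≫ p = (s ∣_ W) ≫ p) (q : V ⟶ S)
    (hp : Nonempty (IsColimit (Cofork.ofπ p w))) (hpq : p ≫ q = W.ι ≫ i ≫ f)
    (h3 : Surjective p) (h4 : Flat p) (h5 : LocallyOfFinitePresentation p)
    (h6 : LocallyOfFiniteType q) (h7 : QuasiCompact q) :
    ∃ (U : X.Opens) (hU : d₀ ⁻¹ᵁ U = d₁ ⁻¹ᵁ U), Dense (U : Set X) ∧
      ∃ (V : Scheme.{u}) (p : (U : Scheme.{u}) ⟶ V)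
        (w : d₀.resLE U (d₁ ⁻¹ᵁ U) hU.ge ≫ p = (d₁ ∣_ U) ≫ p) (q : V ⟶ S),
        Nonempty (IsColimit (Cofork.ofπ p w)) ∧ p ≫ q = U.ι ≫ f ∧
        Surjective p ∧ Flat p ∧ LocallyOfFinitePresentation p ∧ LocallyOfFiniteType q ∧
          QuasiCompact q := by
  obtain ⟨w', hw'⟩ := main h₀ h₁ hr₀ hr₁ hψ₀ hψ₁ hW p w hp
  refine ⟨i ''ᵁ W, image_saturated h₀ h₁ hr₀ hr₁ hψ₀ hψ₁ hW, dense_image_of hd hWd, V, _, w', q, hw', ?_,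
    inferInstance, inferInstance, inferInstance, h6, h7⟩
  rw [Category.assoc, hpq]
  exact Scheme.Hom.isoImage_inv_ι_assoc i W f

end Groth.Agent.GrpQ.H777.Transport
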