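import Groth.Agent.GrpQ.H777.ActSat
import Groth.Agent.GrpQ.H777.ActERel
import Groth.Agent.GrpQ.H777.Transport
import Groth.Agent.S4089
import Groth.Agent.S4096
import Groth.Agent.S0414

/-!
# Existence of a dense saturated open with a quotient
-/

set_option autoImplicit false

universe u

open CategoryTheory CategoryTheory.Limits MonoidalCategory CartesianMonoidalCategory MonObj GrpObj AlgebraicGeometry

namespace Groth.Agent.GrpQ.H777.Final

open Groth.Agent.GrpQ.H776.ActImage ActConj ActRestrict ERelGrpd ActSat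
open Groth.Agent.Sga3.H775.ActGrpd

/-- the conclusion of the statement -/
def Concl {S : Scheme.{u}} {G X : Over S} [GrpObj G] (a : AlgGrp.Action G X) : Prop :=
    ∃ (U : X.left.Opens) (hU : a.act.left ⁻¹ᵁ U = (snd G X).left ⁻¹ᵁ U), Dense (U : Set X.left) ∧
      ∃ (V : Scheme.{u}) (p : (U : Scheme.{u}) ⟶ V)
        (w : a.act.left.resLE U ((snd G X).left ⁻¹ᵁ U) hU.ge ≫ p = ((snd G X).left ∣_ U) ≫ p) (q : V ⟶ S),
        Nonempty (IsColimit (Cofork.ofπ p w)) ∧ p ≫ q = U.ι ≫ X.hom ∧
        Surjective p ∧ Flat p ∧ LocallyOfFinitePresentation p ∧ LocallyOfFiniteType q ∧ QuasiCompact q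

variable {S : Scheme.{u}} [IsNoetherian S] {G X : Over S} [GrpObj G]
    [Flat G.hom] [LocallyOfFiniteType G.hom] [QuasiCompact G.hom] [LocallyOfFiniteType X.hom]
    [QuasiCompact X.hom] (a : AlgGrp.Action G X)

theorem concl_of_flat_on (U₁ : X.left.Opens) (hU₁ : a.act.left ⁻¹ᵁ U₁ = (snd G X).left ⁻¹ᵁ U₁)
    (hd : Dense (U₁ : Set X.left)) (hflat : Flat ((pX a).left ∣_ U₁)) : Concl a := by
  have hX1 : IsLocallyNoetherian X.left := LocallyOfFiniteType.isLocallyNoetherian X.hom
  have hX2 : CompactSpace X.left := QuasiCompact.compactSpace_of_compactSpace X.hom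
  have hX : IsNoetherian X.left := ⟨⟩
  let a' := restrict a U₁ hU₁
  have i1 : LocallyOfFiniteType (XU U₁).hom := inferInstanceAs (LocallyOfFiniteType (U₁.ι ≫ X.hom))
  have i2 : QuasiCompact (XU U₁).hom := inferInstanceAs (QuasiCompact (U₁.ι ≫ X.hom))
  have hst : Flat (pullback.snd (graph a') (H776.ActImage.diag (XU U₁))).left :=
    flat_stab_restrict a U₁ hU₁ hflat
  obtain ⟨H1, H2⟩ := Groth.Agent.S4096.result S G (XU U₁) a'
  obtain ⟨Y, ψ, τ, hψτ, ψ1, ψ2, ψ3, hτ⟩ := H1.mpr hst
  obtain ⟨t1, t2, t3, t4, t5, s1, s2, s3, s4, s5⟩ := H2 Y ψ τ hψτ ψ1 ψ2 ψ3 hτ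
  let t : Y.left ⟶ (XU U₁).left := (τ ≫ fst _ _).left
  let s : Y.left ⟶ (XU U₁).left := (τ ≫ snd _ _).left
  have ht : ψ.left ≫ t = (actGrpd a').t := by
    change (ψ ≫ τ ≫ fst _ _).left = a'.act.left
    rw [← Category.assoc, hψτ, lift_fst]
  have hs : ψ.left ≫ s = (actGrpd a').s := by
    change (ψ ≫ τ ≫ snd _ _).left = (snd G (XU U₁)).left
    rw [← Category.assoc, hψτ, lift_snd]
  have hτl : Mono τ.left := inferInstanceAs (Mono ((Over.forget S).map τ))
  have hψs : Surjective ψ.left := ψ1
  have hψf : Flat ψ.left := ψ2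
  have hψl : LocallyOfFinitePresentation ψ.left := ψ3
  have hm : ∀ {T : Scheme.{u}} (x y : T ⟶ Y.left), x ≫ t = y ≫ t → x ≫ s = y ≫ s → x = y := by
    intro T x y h1 h2
    rw [← cancel_mono τ.left]
    apply pullback.hom_ext
    · rw [Category.assoc, Category.assoc]
      exact h1
    · rw [Category.assoc, Category.assoc]
      exact h2
  have hE : Groth.Agent.Sga3C.QuotRel.IsERel t s :=
    @ActERel.isERel _ _ (actGrpd a') ψ.left t s ht hs hψs hψf hψl hm
  have hS : t ≫ (XU U₁).hom = s ≫ (XU U₁).hom := by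
    rw [Over.w, Over.w]
  let G' := ofERel (XU U₁).hom hE hS
  have j1 : Flat G'.s := s2
  have j2 : LocallyOfFiniteType G'.s := by
    change LocallyOfFiniteType (τ ≫ snd _ _).left
    infer_instance
  have j3 : QuasiCompact G'.s := s4
  have j4 : LocallyOfFiniteType G'.pU := i1
  have j5 : QuasiCompact G'.pU := i2
  have j6 : Mono G'.j := mono_j _ hE hS
  have j7 : LocallyOfFiniteType G'.j := by
    have : LocallyOfFiniteType (G'.j ≫ pullback.snd G'.pU G'.pU) := by
      rw [Grpsch.Points.j_snd]
      exact j2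
    exact locallyOfFiniteType_of_comp _ (pullback.snd G'.pU G'.pU)
  have j8 : LocallyQuasiFinite G'.j := inferInstance
  obtain ⟨W, hW, hWd, V, p, w, q, h1, h2, h3, h4, h5, h6, h7, h8, h9, h10⟩ :=
    Groth.Agent.S4089.result S G'
  have hW' : t ⁻¹ᵁ W = s ⁻¹ᵁ W := hW
  have k0 : (G ◁ iU U₁).left ≫ a.act.left = a'.act.left ≫ (iU U₁).left := by
    rw [← Over.comp_left, ← Over.comp_left]
    exact congrArg CommaMorphism.left (restrict_act_i a U₁ hU₁).symm
  have k1 : (G ◁ iU U₁).left ≫ (snd G X).left = (snd G (XU U₁)).left ≫ (iU U₁).left :=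
    (isPullback_whisker_left (G := G) U₁).w
  have r1 := preimage_le_range (G := G) U₁
  have hr : (iU U₁).left.opensRange = U₁ := Scheme.Opens.opensRange_ι U₁
  have r0 : a.act.left ⁻¹ᵁ (iU U₁).left.opensRange ≤ (G ◁ iU U₁).left.opensRange := by
    refine le_trans (le_of_eq ?_) r1
    rw [hr]
    exact hU₁
  have hdr : DenseRange (iU U₁).left := by
    have e : Set.range (iU U₁).left = (U₁ : Set X.left) := Scheme.Opens.range_ι U₁
    rw [DenseRange, e]
    exact hd
  exact Transport.final k0 k1 r0 r1 ht hs hW' X.hom hdr hWd p w q h1 h2 h3 (h10 j6).2 h5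
    inferInstance h7

theorem main (hF : Flat (pX a).left ∨ IsReduced X.left) : Concl a := by
  have hX1 : IsLocallyNoetherian X.left := LocallyOfFiniteType.isLocallyNoetherian X.hom
  have hX2 : CompactSpace X.left := QuasiCompact.compactSpace_of_compactSpace X.hom
  have hX : IsNoetherian X.left := ⟨⟩
  rcases hF with hF | hF
  · have : (⊤ : X.left.Opens) = ⊤ := rfl
    refine concl_of_flat_on a ⊤ rfl dense_univ ?_
    exact IsZariskiLocalAtTarget.restrict hF _
  · have hsnd : (snd G X).left = pullback.snd G.hom X.hom := rfl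
    have s1 : Flat (snd G X).left := by rw [hsnd]; infer_instance
    have s2 : LocallyOfFinitePresentation (snd G X).left := by rw [hsnd]; infer_instance
    have s3 : QuasiCompact (snd G X).left := by rw [hsnd]; infer_instance
    have a1 : Flat a.act.left := act_prop a @Flat s1
    have a2 : LocallyOfFinitePresentation a.act.left := act_prop a @LocallyOfFinitePresentation s2
    have hf1 : LocallyOfFiniteType (pX a).left := by
      have h1 : IsPullback (pullback.fst (graph a) (H776.ActImage.diag X)).left (pX a).left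
        (graph a).left (H776.ActImage.diag X).left :=
        (IsPullback.of_hasPullback (graph a) (H776.ActImage.diag X)).map (Over.forget S)
      have h2 : LocallyOfFiniteType (graph a).left := by
        have : LocallyOfFiniteType ((graph a).left ≫ (X ⊗ X).hom) := by
          rw [Over.w]; infer_instance
        exact locallyOfFiniteType_of_comp (graph a).left (X ⊗ X).hom
      exact MorphismProperty.of_isPullback h1 h2
    have hf2 : QuasiCompact (pX a).left := by
      have h1 : IsPullback (pullback.fst (graph a) (H776.ActImage.diag X)).left (pX a).left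
        (graph a).left (H776.ActImage.diag X).left :=
        (IsPullback.of_hasPullback (graph a) (H776.ActImage.diag X)).map (Over.forget S)
      have h3 : IsLocallyNoetherian (G ⊗ X).left :=
        LocallyOfFiniteType.isLocallyNoetherian (snd G X).left
      have h4 : CompactSpace (G ⊗ X).left := QuasiCompact.compactSpace_of_compactSpace (snd G X).left
      have h5 : IsNoetherian (G ⊗ X).left := ⟨⟩
      have h2 : QuasiCompact (graph a).left := inferInstance
      exact MorphismProperty.of_isPullback h1 h2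
    obtain ⟨U₀, hd, hfl, -⟩ := Groth.Agent.S0414.result (pX a).left
    obtain ⟨U₁, hle, hU₁, hfl₁⟩ := exists_saturated a U₀ hfl
    exact concl_of_flat_on a U₁ hU₁ (hd.mono hle) hfl₁

end Groth.Agent.GrpQ.H777.Final
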