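import Groth.Agent.GrpQ.H777.RelStab
import Mathlib.LinearAlgebra.TensorProduct.Basis
import Mathlib.RingTheory.TensorProduct.Free

/-!
# Freeness over the invariants

`d₀ : A → D`, `D` an `A`-algebra.  If the `A`-span of `d₀ A` in `D` is free with a basis contained in
`d₀ A` and the associated relation is an equivalence relation, then `A` is free over the ring `C` of
invariants and `A ⊗[C] A → D` is injective.
-/

set_option autoImplicit false

universe u

open TensorProduct Groth.Agent.GrpQ.H777.Stab

namespace Groth.Agent.GrpQ.H777.Inv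

variable {A D : Type u} [CommRing A] [CommRing D] [Algebra A D] (d₀ : A →+* D)

/-- the subring of invariants -/
def inv : Subring A := RingHom.eqLocus d₀ (algebraMap A D)

theorem mem_inv {a : A} : a ∈ inv d₀ ↔ d₀ a = algebraMap A D a := Iff.rfl

/-- the span of `d₀ A` has a basis contained in `d₀ A` -/
def HasBasis : Prop := ∃ s : Set A, LinearIndependent A (fun i : s => d₀ i) ∧
  ∀ a, ∃ c : s →₀ A, d₀ a = Finsupp.linearCombination A (fun i : s => d₀ i) c

variable {d₀}

theorem stable_self (hd₀ : d₀.Flat) (hd₁ : (algebraMap A D).Flat)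
    (heq : IsEquivRel d₀ (algebraMap A D)) : Stable d₀ (algebraMap A D) (fun a => d₀ a) := by
  have h := stable_of_isEquivRel (M := D) hd₀ hd₁ ⊥ (by
    show Ideal.map _ _ = Ideal.map _ _
    rw [Ideal.map_bot, Ideal.map_bot]) heq LinearMap.id (fun x => by
      rw [Ideal.map_bot]; exact Iff.rfl) (fun a ha x => by
      rw [Ideal.mem_bot.mp ha, zero_smul])
  exact h

/-- the coefficients are invariant -/
theorem coef_mem_inv (hd₀ : d₀.Flat) (hd₁ : (algebraMap A D).Flat)
    (heq : IsEquivRel d₀ (algebraMap A D)) (s : Set A)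
    (hs : LinearIndependent A (fun i : s => d₀ i)) (a : A) (c : s →₀ A)
    (hc : d₀ a = Finsupp.linearCombination A (fun i : s => d₀ i) c) (i : s) : c i ∈ inv d₀ := by
  have h := (stable_self hd₀ hd₁ heq).coef_sub_mem hd₁ ⊥ s (fun r hr j => by
    have := (linearIndependent_iff.mp hs) r hr
    rw [this]; exact Ideal.zero_mem _) a c hc i
  rw [Ideal.map_bot, Ideal.mem_bot, sub_eq_zero] at h
  exact h

theorem injective_of_isEquivRel (heq : IsEquivRel d₀ (algebraMap A D)) : Function.Injective d₀ := by
  obtain ⟨Λ', _, _, _, φ, h0, -⟩ := (heq A).refl (RingHom.id A)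
  have : Function.Injective (φ.comp d₀) := by
    rw [h0, RingHom.comp_id]
    exact FaithfulSMul.algebraMap_injective A Λ'
  exact Function.Injective.of_comp (f := φ) (by rw [← RingHom.coe_comp]; exact this)

/-- `A` is free over the invariants. -/
theorem exists_basis_inv (hd₀ : d₀.Flat) (hd₁ : (algebraMap A D).Flat)
    (heq : IsEquivRel d₀ (algebraMap A D)) (s : Set A)
    (hs : LinearIndependent A (fun i : s => d₀ i))
    (hsp : ∀ a, ∃ c : s →₀ A, d₀ a = Finsupp.linearCombination A (fun i : s => d₀ i) c) :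
    ∃ b : Module.Basis s (inv d₀) A, ∀ i, b i = i := by
  have key : ∀ c : s →₀ inv d₀, d₀ (Finsupp.linearCombination (inv d₀) (fun i : s => (i : A)) c) =
      Finsupp.linearCombination A (fun i : s => d₀ i)
        (c.mapRange (inv d₀).subtype (map_zero _)) := by
    intro c
    rw [Finsupp.linearCombination_apply, Finsupp.linearCombination_apply,
      Finsupp.sum_mapRange_index (by intro i; exact zero_smul _ _), Finsupp.sum, Finsupp.sum, map_sum]
    refine Finset.sum_congr rfl fun i _ => ?_
    have h1 : (c i) • (i : A) = (c i : A) * i := rfl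
    rw [h1, map_mul, (mem_inv d₀).mp (c i).2, Algebra.smul_def]
    rfl
  have hinj := injective_of_isEquivRel heq
  have hli : LinearIndependent (inv d₀) (fun i : s => (i : A)) := by
    rw [linearIndependent_iff]
    intro c hc
    have h1 := key c
    rw [hc, map_zero] at h1
    have h2 := (linearIndependent_iff.mp hs) _ h1.symm
    ext i
    have h3 := DFunLike.congr_fun h2 i
    rw [Finsupp.mapRange_apply] at h3
    exact h3
  have hspan : ⊤ ≤ Submodule.span (inv d₀) (Set.range (fun i : s => (i : A))) := by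
    intro a _
    obtain ⟨c, hc⟩ := hsp a
    have hmem := coef_mem_inv hd₀ hd₁ heq s hs a c hc
    rw [Finsupp.mem_span_range_iff_exists_finsupp]
    let c' : s →₀ inv d₀ := Finsupp.onFinset c.support (fun i => ⟨c i, hmem i⟩) (by
      intro i hi
      rw [Finsupp.mem_support_iff]
      intro h0
      exact hi (Subtype.ext h0))
    refine ⟨c', hinj ?_⟩
    rw [hc]
    have h2 := key c'
    rw [Finsupp.linearCombination_apply] at h2
    rw [h2]
    congr 1
    ext i
    rfl
  exact ⟨Module.Basis.mk hli hspan, fun i => by simp⟩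

/-- `d₀` as a homomorphism of algebras over the invariants -/
def d₀Alg (d₀ : A →+* D) : A →ₐ[inv d₀] D :=
  { d₀ with
    commutes' := fun c => c.2 }

/-- the multiplication map `a ⊗ b ↦ a • d₀ b` -/
noncomputable def μ (d₀ : A →+* D) : A ⊗[inv d₀] A →ₐ[A] D :=
  Algebra.TensorProduct.lift (Algebra.ofId A D) (d₀Alg d₀) (fun _ _ => Commute.all _ _)

theorem μ_tmul (d₀ : A →+* D) (a b : A) : μ d₀ (a ⊗ₜ b) = algebraMap A D a * d₀ b := rfl

theorem μ_injective (hd₀ : d₀.Flat) (hd₁ : (algebraMap A D).Flat)
    (heq : IsEquivRel d₀ (algebraMap A D)) (h : HasBasis d₀) : Function.Injective (μ d₀) := by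
  obtain ⟨s, hs, hsp⟩ := h
  obtain ⟨b, hb⟩ := exists_basis_inv hd₀ hd₁ heq s hs hsp
  let b' := b.baseChange A
  have h1 : LinearIndependent A ((μ d₀).toLinearMap ∘ b') := by
    convert hs using 1
    ext i
    simp only [Function.comp, b', Module.Basis.baseChange_apply, hb]
    show μ d₀ (1 ⊗ₜ _) = _
    rw [μ_tmul, map_one, one_mul]
  have h2 : LinearMap.ker (μ d₀).toLinearMap = ⊥ := by
    rw [LinearMap.ker_eq_bot']
    intro x hx
    rw [← b'.linearCombination_repr x, Finsupp.apply_linearCombination] at hx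
    have h3 := (linearIndependent_iff.mp h1) _ hx
    rw [← b'.linearCombination_repr x, h3, map_zero]
  exact LinearMap.ker_eq_bot.mp h2

/-- Over a field, the condition on bases always holds. -/
theorem hasBasis_of_field {A D : Type u} [Field A] [CommRing D] [Algebra A D] (d₀ : A →+* D) :
    HasBasis d₀ := by
  obtain ⟨s, hs, hmx⟩ := exists_maximal_linearIndepOn A (fun a => d₀ a)
  refine ⟨s, hs, fun a => ?_⟩
  have hmem : d₀ a ∈ Submodule.span A (Set.range (fun i : s => d₀ i)) := by
    rw [show Set.range (fun i : s => d₀ i) = (fun a => d₀ a) '' s by ext y; simp]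
    by_cases ha : a ∈ s
    · exact Submodule.subset_span ⟨a, ha, rfl⟩
    · obtain ⟨x, hx, h⟩ := hmx a ha
      have := Submodule.smul_mem _ x⁻¹ h
      rwa [smul_smul, inv_mul_cancel₀ hx, one_smul] at this
  rw [Finsupp.mem_span_range_iff_exists_finsupp] at hmem
  obtain ⟨c, hc⟩ := hmem
  exact ⟨c, by rw [Finsupp.linearCombination_apply, hc]⟩

end Groth.Agent.GrpQ.H777.Inv
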