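import Groth.Agent.GrpQ.H777.InvBasis
import Mathlib.RingTheory.Ideal.MinimalPrime.Localization
import Mathlib.RingTheory.LocalRing.ResidueField.Ideal
import Mathlib.RingTheory.Spectrum.Prime.Basic
import Mathlib.RingTheory.Spectrum.Prime.Topology
import Mathlib.RingTheory.Flat.FaithfullyFlat.Basic

/-!
# Surjectivity of `Spec D → Spec (A ⊗[C] A)`
-/

set_option autoImplicit false

universe u

open TensorProduct Groth.Agent.GrpQ.H777.Stab IsLocalRing

namespace Groth.Agent.GrpQ.H777.Inv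

section socle

/-- In a nontrivial ring with nilpotent ideal `m` and an ideal `n ≠ ⊤` there is `s ∉ n` with `s m ⊆ n`. -/
theorem exists_notMem_mul_mem {A : Type*} [CommRing A] (m n : Ideal A) (hm : IsNilpotent m)
    (hn : n ≠ ⊤) : ∃ s, s ∉ n ∧ ∀ a ∈ m, s * a ∈ n := by
  classical
  obtain ⟨N, hN⟩ := hm
  have hex : ∃ k, m ^ k ≤ n := ⟨N, by rw [hN]; exact bot_le⟩
  let k := Nat.find hex
  have hk : m ^ k ≤ n := Nat.find_spec hex
  have hk0 : k ≠ 0 := by
    intro h0
    rw [h0, pow_zero, Ideal.one_eq_top, top_le_iff] at hk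
    exact hn hk
  have hk1 : ¬ m ^ (k - 1) ≤ n := Nat.find_min hex (by omega)
  obtain ⟨s, hs, hsn⟩ := SetLike.not_le_iff_exists.mp hk1
  refine ⟨s, hsn, fun a ha => hk ?_⟩
  have : k = (k - 1) + 1 := by omega
  rw [this, pow_succ]
  exact Ideal.mul_mem_mul hs ha

variable {A : Type u} [CommRing A] [IsLocalRing A] {N : Type*} [AddCommGroup N] [Module A N]

/-- independence modulo an ideal implies independence over the residue field -/
theorem linearIndependent_residueField {J : Type*} (hm : IsNilpotent (maximalIdeal A)) (n : Ideal A)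
    (hn : n ≠ ⊤) (v : J → N)
    (hv : ∀ r : J →₀ A, (Finsupp.linearCombination A v r ∈ (n • ⊤ : Submodule A N)) → ∀ j, r j ∈ n) :
    LinearIndependent (ResidueField A) (TensorProduct.mk A (ResidueField A) N 1 ∘ v) := by
  classical
  obtain ⟨s, hsn, hs⟩ := exists_notMem_mul_mem (maximalIdeal A) n hm hn
  rw [linearIndependent_iff]
  intro l hl
  -- lift the coefficients
  choose g hg using fun j => residue_surjective (R := A) (l j)
  let g' : J →₀ A := Finsupp.onFinset l.support (fun j => if l j = 0 then 0 else g j) (by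
    intro j hj
    rw [Finsupp.mem_support_iff]
    intro h0
    exact hj (by simp [h0]))
  have hg' : ∀ j, residue A (g' j) = l j := by
    intro j
    by_cases h0 : l j = 0
    · simp [g', h0]
    · simp [g', h0, hg]
  have h1 : (TensorProduct.mk A (ResidueField A) N 1) (Finsupp.linearCombination A v g') = 0 := by
    rw [← hl, Finsupp.linearCombination_apply, Finsupp.linearCombination_apply]
    have hsupp : g'.support ⊆ l.support := by
      intro j hj
      rw [Finsupp.mem_support_iff] at hj ⊢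
      intro h0
      exact hj (by simp [g', h0])
    rw [Finsupp.sum_of_support_subset g' hsupp _ (by intro i _; exact zero_smul _ _), map_sum,
      Finsupp.sum]
    refine Finset.sum_congr rfl fun j _ => ?_
    rw [map_smul, ← hg' j, ← algebraMap_smul (ResidueField A) (g' j)]
    rfl
  have h2 : Finsupp.linearCombination A v g' ∈ maximalIdeal A • (⊤ : Submodule A N) := by
    rw [← LinearMap.ker_tensorProductMk]
    exact h1
  have h3 : Finsupp.linearCombination A v (s • g') ∈ (n • ⊤ : Submodule A N) := by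
    rw [map_smul]
    have key : ∀ x ∈ maximalIdeal A • (⊤ : Submodule A N), s • x ∈ (n • ⊤ : Submodule A N) := by
      have hle : maximalIdeal A • (⊤ : Submodule A N) ≤ (n • ⊤ : Submodule A N).comap
          (LinearMap.lsmul A N s) := by
        rw [Submodule.smul_le]
        intro a ha y _
        rw [Submodule.mem_comap, LinearMap.lsmul_apply, smul_smul]
        exact Submodule.smul_mem_smul (hs a ha) trivial
      exact fun x hx => hle hx
    exact key _ h2
  ext j
  rw [Finsupp.zero_apply, ← hg' j, residue_eq_zero_iff]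
  by_contra hunit
  have hu : IsUnit (g' j) := by
    by_contra h
    exact hunit ((mem_maximalIdeal _).mpr h)
  have h4 := hv _ h3 j
  rw [Finsupp.smul_apply, smul_eq_mul] at h4
  exact hsn ((Ideal.mul_unit_mem_iff_mem n hu).mp h4)

/-- base change to a field of a linearly independent family over a local ring with nilpotent
maximal ideal -/
theorem linearIndependent_tw {J : Type*} (hm : IsNilpotent (maximalIdeal A)) (v : J → N)
    (hv : LinearIndependent A v) {Ω : Type*} [Field Ω] (β : A →+* Ω) (t : J →₀ Ω)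
    (ht : relMap β v t = 0) : t = 0 := by
  have h1 := linearIndependent_residueField hm ⊥ bot_ne_top v (by
    intro r hr j
    rw [Submodule.bot_smul, Submodule.mem_bot] at hr
    rw [linearIndependent_iff.mp hv r hr]
    rfl)
  have hker : ∀ a ∈ maximalIdeal A, β a = 0 := by
    intro a ha
    obtain ⟨k, hk⟩ := hm
    have : a ^ k = 0 := by
      have := Ideal.pow_mem_pow ha k
      rwa [hk] at this
    have hnil : IsNilpotent a := ⟨k, this⟩
    exact (hnil.map β).eq_zero
  let βbar : ResidueField A →+* Ω := Ideal.Quotient.lift _ β hker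
  let _ : Algebra (ResidueField A) (Tw β) := ((Tw.mk β).toRingHom.comp βbar).toAlgebra
  have : IsScalarTower A (ResidueField A) (Tw β) := IsScalarTower.of_algebraMap_eq fun a => rfl
  have h2 : LinearIndependent (Tw β) (fun j => (1 : Tw β) ⊗ₜ[ResidueField A]
      ((TensorProduct.mk A (ResidueField A) N 1 ∘ v) j)) :=
    Module.Flat.linearIndependent_one_tmul h1
  let e := TensorProduct.AlgebraTensorModule.cancelBaseChange A (ResidueField A) (Tw β) (Tw β) N
  have h3 : ∀ j, e ((1 : Tw β) ⊗ₜ[ResidueField A]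
      ((TensorProduct.mk A (ResidueField A) N 1 ∘ v) j)) = (1 : Tw β) ⊗ₜ[A] v j := by
    intro j
    simp [e]
  have h4 : LinearIndependent (Tw β) (fun j => (1 : Tw β) ⊗ₜ[A] v j) := by
    have := h2.map' e.toLinearMap (LinearEquiv.ker e)
    have h6 : (fun j => (1 : Tw β) ⊗ₜ[A] v j) = e.toLinearMap ∘ (fun j => (1 : Tw β) ⊗ₜ[ResidueField A]
      ((TensorProduct.mk A (ResidueField A) N 1 ∘ v) j)) := funext fun j => (h3 j).symm
    rw [h6]
    exact this
  have h5 := (linearIndependent_iff.mp h4) (t : J →₀ Tw β) (by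
    rw [← ht, relMap_apply, Finsupp.linearCombination_apply]
    refine Finsupp.sum_congr fun j _ => ?_
    rw [TensorProduct.smul_tmul', smul_eq_mul, mul_one]
    rfl)
  exact h5

end socle

variable {A D : Type u} [CommRing A] [CommRing D] [Algebra A D] {d₀ : A →+* D}

theorem exists_lift {C Ω A E : Type*} [CommRing C] [CommRing Ω] [CommRing A] [CommRing E]
    [Algebra C Ω] [Algebra C A] (f : Ω →+* E) (g : A →+* E)
    (h : ∀ c, f (algebraMap C Ω c) = g (algebraMap C A c)) :
    ∃ j : Ω ⊗[C] A →+* E, ∀ ω a, j (ω ⊗ₜ a) = f ω * g a := by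
  let _ : Algebra C E := (f.comp (algebraMap C Ω)).toAlgebra
  let j₁ : Ω →ₐ[C] E := { f with commutes' := fun c => rfl }
  let j₂ : A →ₐ[C] E := { g with commutes' := fun c => (h c).symm }
  exact ⟨(Algebra.TensorProduct.lift j₁ j₂ (fun _ _ => Commute.all _ _)).toRingHom,
    fun ω a => Algebra.TensorProduct.lift_tmul _ _ _ _ _⟩

/-- Two homomorphisms to a field which agree on the invariants are related. -/
theorem rel_of_field [IsLocalRing A] (hm : IsNilpotent (maximalIdeal A))
    (hd₀ : d₀.Flat) (hd₁ : (algebraMap A D).Flat)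
    (heq : IsEquivRel d₀ (algebraMap A D)) (h : HasBasis d₀) {Ω : Type u} [Field Ω]
    (α β : A →+* Ω) (hαβ : ∀ c ∈ inv d₀, α c = β c) : Rel d₀ (algebraMap A D) α β := by
  obtain ⟨s, hs, hsp⟩ := h
  obtain ⟨b, hb⟩ := exists_basis_inv hd₀ hd₁ heq s hs hsp
  -- the ring `Θ = Ω ⊗[C] A`
  let _ : Algebra (inv d₀) Ω := (α.comp (inv d₀).subtype).toAlgebra
  let Θ := Ω ⊗[inv d₀] A
  -- for a homomorphism `γ : A → Ω` restricting to the given one on `C`
  have key : ∀ γ : A →+* Ω, (∀ c ∈ inv d₀, α c = γ c) →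
      ∃ j : Θ →+* (Tw γ ⊗[A] D), Function.Injective j ∧
        (∀ ω, j (ω ⊗ₜ 1) = (Tw.mk γ ω) ⊗ₜ 1) ∧ (∀ a, j (1 ⊗ₜ a) = 1 ⊗ₜ (d₀ a)) := by
    intro γ hγ
    have hc : ∀ c : inv d₀, (Tw.mk γ (algebraMap (inv d₀) Ω c)) ⊗ₜ[A] (1 : D) =
        (1 : Tw γ) ⊗ₜ[A] (d₀ c) := by
      intro c
      have h1 : algebraMap (inv d₀) Ω c = γ c := hγ c c.2
      have h2 : Tw.mk γ (γ (c : A)) = (c : A) • (1 : Tw γ) := by
        rw [Algebra.smul_def, mul_one]; rfl
      rw [h1, h2, TensorProduct.smul_tmul, (mem_inv d₀).mp c.2, Algebra.smul_def, mul_one]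
    obtain ⟨j, hj'⟩ := exists_lift (C := inv d₀) (Ω := Ω) (A := A) (E := Tw γ ⊗[A] D)
      ((Algebra.TensorProduct.includeLeft : Tw γ →ₐ[A] Tw γ ⊗[A] D).toRingHom.comp
          (Tw.mk γ).toRingHom)
      ((Algebra.TensorProduct.includeRight : D →ₐ[A] Tw γ ⊗[A] D).toRingHom.comp d₀) hc
    have hj : ∀ ω a, j (ω ⊗ₜ a) = (Tw.mk γ ω) ⊗ₜ (d₀ a) := by
      intro ω a
      rw [hj']
      show ((Tw.mk γ ω) ⊗ₜ[A] (1 : D)) * ((1 : Tw γ) ⊗ₜ[A] (d₀ a)) = _
      rw [Algebra.TensorProduct.tmul_mul_tmul, mul_one, one_mul]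
    refine ⟨j, ?_, fun ω => ?_, fun a => ?_⟩
    · rw [injective_iff_map_eq_zero]
      intro x hx
      let b' := b.baseChange Ω
      have h1 : relMap γ (fun i : s => d₀ i) (b'.repr x) = 0 := by
        rw [← hx]
        conv_rhs => rw [← b'.linearCombination_repr x, Finsupp.linearCombination_apply]
        rw [relMap_apply, Finsupp.sum, Finsupp.sum, map_sum]
        refine Finset.sum_congr rfl fun i _ => ?_
        have h2 : (b'.repr x) i • b' i = ((b'.repr x) i) ⊗ₜ[inv d₀] (i : A) := by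
          rw [Module.Basis.baseChange_apply, TensorProduct.smul_tmul', smul_eq_mul, mul_one, hb]
        rw [h2]
        exact (hj _ _).symm
      have h3 := linearIndependent_tw hm _ hs γ _ h1
      rw [← b'.linearCombination_repr x, h3, map_zero]
    · show j (ω ⊗ₜ 1) = _
      rw [hj, map_one]
    · show j (1 ⊗ₜ a) = _
      rw [hj, map_one]
  obtain ⟨jα, hjα, hα1, hα2⟩ := key α (fun c _ => rfl)
  obtain ⟨jβ, hjβ, hβ1, hβ2⟩ := key β hαβ
  -- a minimal prime of `Θ`
  have hne : Nontrivial Θ := by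
    have : Nonempty s := by
      by_contra hempty
      rw [not_nonempty_iff] at hempty
      have h1 : (1 : A) = 0 := by
        rw [← b.linearCombination_repr 1, Subsingleton.elim (b.repr 1) 0, map_zero]
      exact one_ne_zero h1
    exact (b.baseChange Ω).repr.toEquiv.nontrivial
  obtain ⟨⟨q, hq⟩⟩ : Nonempty ↑(⊥ : Ideal Θ).minimalPrimes := Ideal.nonempty_minimalPrimes bot_ne_top
  have hqp : q.IsPrime := hq.isPrime
  obtain ⟨qα, hqα, hcα⟩ := Ideal.exists_comap_eq_of_mem_minimalPrimes_of_injective hjα q hq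
  obtain ⟨qβ, hqβ, hcβ⟩ := Ideal.exists_comap_eq_of_mem_minimalPrimes_of_injective hjβ q hq
  -- a common extension
  let κ := q.ResidueField
  let rα : κ →+* qα.ResidueField := Ideal.ResidueField.map q qα jα hcα.symm
  let rβ : κ →+* qβ.ResidueField := Ideal.ResidueField.map q qβ jβ hcβ.symm
  let _ : Algebra κ qα.ResidueField := rα.toAlgebra
  let _ : Algebra κ qβ.ResidueField := rβ.toAlgebra
  let Λ := qα.ResidueField ⊗[κ] qβ.ResidueField
  have hneΛ : Nontrivial Λ := inferInstance
  let uα : (Tw α ⊗[A] D) →+* Λ := (Algebra.TensorProduct.includeLeftRingHom).comp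
    (algebraMap (Tw α ⊗[A] D) qα.ResidueField)
  let uβ : (Tw β ⊗[A] D) →+* Λ :=
    (Algebra.TensorProduct.includeRight : qβ.ResidueField →ₐ[κ] Λ).toRingHom.comp
    (algebraMap (Tw β ⊗[A] D) qβ.ResidueField)
  have huu : uα.comp jα = uβ.comp jβ := by
    refine RingHom.ext fun x => ?_
    show (algebraMap (Tw α ⊗[A] D) qα.ResidueField (jα x)) ⊗ₜ[κ] (1 : qβ.ResidueField) =
      (1 : qα.ResidueField) ⊗ₜ[κ] (algebraMap (Tw β ⊗[A] D) qβ.ResidueField (jβ x))
    have h1 : algebraMap (Tw α ⊗[A] D) qα.ResidueField (jα x) =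
        (algebraMap Θ κ x) • (1 : qα.ResidueField) := by
      rw [Algebra.smul_def, mul_one]
      exact (Ideal.ResidueField.map_algebraMap q qα jα hcα.symm x).symm
    have h2 : algebraMap (Tw β ⊗[A] D) qβ.ResidueField (jβ x) =
        (algebraMap Θ κ x) • (1 : qβ.ResidueField) := by
      rw [Algebra.smul_def, mul_one]
      exact (Ideal.ResidueField.map_algebraMap q qβ jβ hcβ.symm x).symm
    rw [h1, h2, TensorProduct.smul_tmul]
  -- `Λ` is an algebra over `Ω`
  let ι : Ω →+* Λ := uα.comp (jα.comp Algebra.TensorProduct.includeLeftRingHom)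
  let _ : Algebra Ω Λ := ι.toAlgebra
  have hff : Module.FaithfullyFlat Ω Λ := inferInstance
  have h1 : Rel d₀ (algebraMap A D)
      ((uα.comp jα).comp (Algebra.TensorProduct.includeRight : A →ₐ[inv d₀] Θ).toRingHom)
      (ι.comp α) := by
    have h2 := Rel.of_hom (d₀ := d₀) (d₁ := algebraMap A D)
      (uα.comp (Algebra.TensorProduct.includeRight : D →ₐ[A] Tw α ⊗[A] D).toRingHom)
    have h3 : (uα.comp (Algebra.TensorProduct.includeRight : D →ₐ[A] Tw α ⊗[A] D).toRingHom).comp d₀ =
        (uα.comp jα).comp (Algebra.TensorProduct.includeRight : A →ₐ[inv d₀] Θ).toRingHom := by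
      ext a
      exact congrArg uα (hα2 a).symm
    have h4 : (uα.comp (Algebra.TensorProduct.includeRight : D →ₐ[A] Tw α ⊗[A] D).toRingHom).comp
        (algebraMap A D) = ι.comp α := by
      ext a
      show uα ((1 : Tw α) ⊗ₜ (algebraMap A D a)) = uα (jα ((α a) ⊗ₜ 1))
      rw [hα1]
      congr 1
      have h5 : Tw.mk α (α a) = a • (1 : Tw α) := by rw [Algebra.smul_def, mul_one]; rfl
      rw [h5, TensorProduct.smul_tmul, Algebra.smul_def, mul_one]
    rwa [h3, h4] at h2
  have h1' : Rel d₀ (algebraMap A D)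
      ((uα.comp jα).comp (Algebra.TensorProduct.includeRight : A →ₐ[inv d₀] Θ).toRingHom)
      (ι.comp β) := by
    have h2 := Rel.of_hom (d₀ := d₀) (d₁ := algebraMap A D)
      (uβ.comp (Algebra.TensorProduct.includeRight : D →ₐ[A] Tw β ⊗[A] D).toRingHom)
    have h3 : (uβ.comp (Algebra.TensorProduct.includeRight : D →ₐ[A] Tw β ⊗[A] D).toRingHom).comp d₀ =
        (uα.comp jα).comp (Algebra.TensorProduct.includeRight : A →ₐ[inv d₀] Θ).toRingHom := by
      rw [huu]
      ext a
      exact congrArg uβ (hβ2 a).symm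
    have h4 : (uβ.comp (Algebra.TensorProduct.includeRight : D →ₐ[A] Tw β ⊗[A] D).toRingHom).comp
        (algebraMap A D) = ι.comp β := by
      ext a
      show uβ ((1 : Tw β) ⊗ₜ (algebraMap A D a)) = (uα.comp jα) ((β a) ⊗ₜ 1)
      rw [huu]
      show _ = uβ (jβ ((β a) ⊗ₜ 1))
      rw [hβ1]
      congr 1
      have h5 : Tw.mk β (β a) = a • (1 : Tw β) := by rw [Algebra.smul_def, mul_one]; rfl
      rw [h5, TensorProduct.smul_tmul, Algebra.smul_def, mul_one]
    rwa [h3, h4] at h2
  exact Rel.of_faithfullyFlat (Λ₁ := Λ) ((heq Λ).trans ((heq Λ).symm h1) h1')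

/-- `Spec D → Spec (A ⊗[C] A)` is surjective. -/
theorem comap_μ_surjective [IsLocalRing A] (hm : IsNilpotent (maximalIdeal A))
    (hd₀ : d₀.Flat) (hd₁ : (algebraMap A D).Flat)
    (heq : IsEquivRel d₀ (algebraMap A D)) (h : HasBasis d₀) (z : Ideal (A ⊗[inv d₀] A))
    [z.IsPrime] : ∃ P : Ideal D, P.IsPrime ∧ P.comap (μ d₀).toRingHom = z := by
  let Ω := z.ResidueField
  let β : A →+* Ω := (algebraMap (A ⊗[inv d₀] A) Ω).comp Algebra.TensorProduct.includeLeftRingHom
  let α : A →+* Ω := (algebraMap (A ⊗[inv d₀] A) Ω).comp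
    (Algebra.TensorProduct.includeRight : A →ₐ[inv d₀] A ⊗[inv d₀] A).toRingHom
  have hαβ : ∀ c ∈ inv d₀, α c = β c := by
    intro c hc
    show algebraMap (A ⊗[inv d₀] A) Ω ((1 : A) ⊗ₜ c) = algebraMap (A ⊗[inv d₀] A) Ω (c ⊗ₜ (1 : A))
    congr 1
    have : (c : A) = (⟨c, hc⟩ : inv d₀) • (1 : A) := by
      show c = c * 1
      rw [mul_one]
    rw [this, TensorProduct.smul_tmul]
  obtain ⟨Λ, _, _, _, φ, h0, h1⟩ := rel_of_field hm hd₀ hd₁ heq h α β hαβ
  have hne : Nontrivial Λ := (FaithfulSMul.algebraMap_injective Ω Λ).nontrivial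
  obtain ⟨P, hP⟩ := Ideal.exists_maximal Λ
  have hPp : P.IsPrime := hP.isPrime
  refine ⟨P.comap φ, Ideal.comap_isPrime _ _, ?_⟩
  have h2 : φ.comp (μ d₀).toRingHom = (algebraMap Ω Λ).comp (algebraMap (A ⊗[inv d₀] A) Ω) := by
    refine Algebra.TensorProduct.ringHom_ext ?_ ?_
    · refine Eq.trans ?_ h1
      ext a
      show φ (μ d₀ (a ⊗ₜ 1)) = φ (algebraMap A D a)
      rw [μ_tmul, map_one, mul_one]
    · refine Eq.trans ?_ h0
      ext a
      show φ (μ d₀ (1 ⊗ₜ a)) = φ (d₀ a)
      rw [μ_tmul, map_one, one_mul]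
  rw [Ideal.comap_comap, h2, ← Ideal.comap_comap]
  have h3 : P.comap (algebraMap Ω Λ) = ⊥ := by
    exact (Ideal.eq_bot_or_top _).resolve_right (Ideal.comap_ne_top _ hP.ne_top)
  rw [h3]
  exact Ideal.ker_algebraMap_residueField z

end Groth.Agent.GrpQ.H777.Inv
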