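import Groth.Agent.GrpQ.H777.StabBasis

/-!
# The relation on ring homomorphisms given by a pair `d₀ d₁ : A → D`

`Rel d₀ d₁ α β` for `α β : A → Λ`: after a faithfully flat extension of `Λ` the pair `(α, β)` comes
from a homomorphism `D → Λ'`.  When this is an equivalence relation for all `Λ`, the family
`a ↦ d₀ a` of `D` (a module over `A` through `d₁`) is stable.
-/

set_option autoImplicit false

universe u

open TensorProduct

namespace Groth.Agent.GrpQ.H777.Stab

variable {A D : Type u} [CommRing A] [CommRing D]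

/-- two ring homs `α β : A → Λ` are related if, after a faithfully flat extension, they come from a
homomorphism out of `D` -/
def Rel (d₀ d₁ : A →+* D) {Λ : Type u} [CommRing Λ] (α β : A →+* Λ) : Prop :=
  ∃ (Λ' : Type u) (_ : CommRing Λ') (_ : Algebra Λ Λ') (_ : Module.FaithfullyFlat Λ Λ')
    (φ : D →+* Λ'), φ.comp d₀ = (algebraMap Λ Λ').comp α ∧ φ.comp d₁ = (algebraMap Λ Λ').comp β

variable {d₀ d₁ : A →+* D}

theorem Rel.of_hom {Λ : Type u} [CommRing Λ] (φ : D →+* Λ) : Rel d₀ d₁ (φ.comp d₀) (φ.comp d₁) :=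
  ⟨Λ, inferInstance, inferInstance, inferInstance, φ, rfl, rfl⟩

theorem Rel.comp {Λ Λ₁ : Type u} [CommRing Λ] [CommRing Λ₁] {α β : A →+* Λ} (h : Rel d₀ d₁ α β)
    (ψ : Λ →+* Λ₁) : Rel d₀ d₁ (ψ.comp α) (ψ.comp β) := by
  obtain ⟨Λ', _, _, _, φ, h0, h1⟩ := h
  let := ψ.toAlgebra
  refine ⟨Λ₁ ⊗[Λ] Λ', inferInstance, inferInstance, inferInstance,
    (Algebra.TensorProduct.includeRight : Λ' →ₐ[Λ] Λ₁ ⊗[Λ] Λ').toRingHom.comp φ, ?_, ?_⟩
  · rw [RingHom.comp_assoc, h0]
    ext a
    simp only [RingHom.comp_apply]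
    exact (Algebra.TensorProduct.includeRight : Λ' →ₐ[Λ] Λ₁ ⊗[Λ] Λ').commutes (α a)
  · rw [RingHom.comp_assoc, h1]
    ext a
    simp only [RingHom.comp_apply]
    exact (Algebra.TensorProduct.includeRight : Λ' →ₐ[Λ] Λ₁ ⊗[Λ] Λ').commutes (β a)

/-- being related descends along faithfully flat homomorphisms -/
theorem Rel.of_faithfullyFlat {Λ Λ₁ : Type u} [CommRing Λ] [CommRing Λ₁] [Algebra Λ Λ₁]
    [Module.FaithfullyFlat Λ Λ₁] {α β : A →+* Λ}
    (h : Rel d₀ d₁ ((algebraMap Λ Λ₁).comp α) ((algebraMap Λ Λ₁).comp β)) : Rel d₀ d₁ α β := by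
  obtain ⟨Λ', _, _, _, φ, h0, h1⟩ := h
  let : Algebra Λ Λ' := ((algebraMap Λ₁ Λ').comp (algebraMap Λ Λ₁)).toAlgebra
  have : IsScalarTower Λ Λ₁ Λ' := IsScalarTower.of_algebraMap_eq fun _ => rfl
  refine ⟨Λ', inferInstance, inferInstance, Module.FaithfullyFlat.trans Λ Λ₁ Λ', φ, ?_, ?_⟩
  · rw [h0]; rfl
  · rw [h1]; rfl

/-- `alg`-images of ideals -/
theorem Rel.map_eq {Λ : Type u} [CommRing Λ] {α β : A →+* Λ} (h : Rel d₀ d₁ α β) (n : Ideal A)
    (hn : StableIdeal d₀ d₁ n) : n.map α = n.map β := by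
  obtain ⟨Λ', _, _, _, φ, h0, h1⟩ := h
  have h2 : (n.map α).map (algebraMap Λ Λ') = (n.map β).map (algebraMap Λ Λ') := by
    rw [Ideal.map_map, Ideal.map_map, ← h0, ← h1, ← Ideal.map_map, ← Ideal.map_map,
      show n.map d₀ = n.map d₁ from hn]
  have h3 := congrArg (Ideal.comap (algebraMap Λ Λ')) h2
  rwa [Ideal.comap_map_eq_self_of_faithfullyFlat, Ideal.comap_map_eq_self_of_faithfullyFlat] at h3

/-- transport of relations -/
theorem Rel.sum_mem {Λ : Type u} [CommRing Λ] {α β : A →+* Λ} (h : Rel d₀ d₁ α β) (n : Ideal A)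
    (r : A →₀ A) (hr : (r.sum fun a x => d₁ x * d₀ a) ∈ n.map d₁) :
    (r.sum fun a x => β x * α a) ∈ n.map β := by
  obtain ⟨Λ', _, _, _, φ, h0, h1⟩ := h
  rw [← Ideal.comap_map_eq_self_of_faithfullyFlat (B := Λ') (n.map β), Ideal.mem_comap, Ideal.map_map,
    ← h1, ← Ideal.map_map]
  convert Ideal.mem_map_of_mem φ hr using 1
  rw [Finsupp.sum, Finsupp.sum, map_sum, map_sum]
  refine Finset.sum_congr rfl fun a _ => ?_
  rw [map_mul, map_mul]
  congr 1
  · exact (RingHom.congr_fun h1 (r a)).symm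
  · exact (RingHom.congr_fun h0 a).symm

/-- The equivalence relation hypothesis -/
def IsEquivRel (d₀ d₁ : A →+* D) : Prop :=
  ∀ (Λ : Type u) [CommRing Λ], Equivalence (fun α β : A →+* Λ => Rel d₀ d₁ α β)

section

variable {D : Type u} [CommRing D] [Algebra A D] {d₀ : A →+* D}
  {M : Type*} [AddCommGroup M] [Module A M]

/-- key step: transport of relations between the `p (d₀ a)` -/
theorem relMap_mapC_of_rel (n : Ideal A) (hn : StableIdeal d₀ (algebraMap A D) n)
    (heq : IsEquivRel d₀ (algebraMap A D))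
    (p : D →ₗ[A] M) (hp : ∀ x, p x = 0 ↔ x ∈ n.map (algebraMap A D)) (hnM : ∀ a ∈ n, ∀ x : M, a • x = 0)
    (d d' : A →+* D)
    (hdd : ∀ (Λ : Type u) [CommRing Λ] (ψ : D →+* Λ), Rel d₀ (algebraMap A D) (ψ.comp d) (ψ.comp d'))
    (r : A →₀ A) (hr : Finsupp.linearCombination A (fun a => p (d₀ a)) r = 0) :
    relMap d (fun a => p (d₀ a)) (mapC d' r) = 0 := by
  let Λ := Tw d ⊗[A] D
  let α : A →+* Λ := (Algebra.TensorProduct.includeRight : D →ₐ[A] Λ).toRingHom.comp d₀
  let γ : A →+* Λ := algebraMap A Λ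
  let ι : D →+* Λ := (Algebra.TensorProduct.includeLeft : Tw d →ₐ[A] Λ).toRingHom.comp
    (Tw.mk d).toRingHom
  let β : A →+* Λ := ι.comp d'
  have h1 : Rel d₀ (algebraMap A D) α γ := by
    have := Rel.of_hom (d₀ := d₀) (d₁ := algebraMap A D)
      (Algebra.TensorProduct.includeRight : D →ₐ[A] Λ).toRingHom
    convert this using 1
    ext a
    exact ((Algebra.TensorProduct.includeRight : D →ₐ[A] Λ).commutes a).symm
  have h2 : Rel d₀ (algebraMap A D) γ β := hdd Λ ι
  have h3 : Rel d₀ (algebraMap A D) α β := (heq Λ).trans h1 h2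
  have h4 := h3.sum_mem n r (by
    rw [← hp, ← hr, Finsupp.linearCombination_apply, Finsupp.sum, Finsupp.sum, map_sum]
    refine Finset.sum_congr rfl fun a _ => ?_
    rw [← Algebra.smul_def, map_smul])
  rw [← h2.map_eq n hn] at h4
  -- kill `n`
  have hkill : ∀ a ∈ n, ∀ z : Tw d ⊗[A] M, a • z = 0 := by
    intro a ha z
    induction z using TensorProduct.induction_on with
    | zero => rw [smul_zero]
    | add z w hz hw => rw [smul_add, hz, hw, add_zero]
    | tmul z w => rw [TensorProduct.smul_tmul', TensorProduct.smul_tmul, hnM a ha,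
        TensorProduct.tmul_zero]
  have h5 : ∀ x : Λ, x ∈ n.map γ → p.lTensor (Tw d) x = 0 := by
    intro x hx
    have hx' : x ∈ (n • (⊤ : Submodule A Λ) : Submodule A Λ) := by
      rw [Ideal.smul_top_eq_map]; exact hx
    have hle : (n • (⊤ : Submodule A Λ) : Submodule A Λ) ≤ LinearMap.ker (p.lTensor (Tw d)) := by
      rw [Submodule.smul_le]
      intro a ha y _
      rw [LinearMap.mem_ker, map_smul]
      exact hkill a ha _
    exact hle hx'
  have h6 := h5 _ h4
  rw [relMap_apply, ← h6]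
  have h8 : mapC d' r = r.mapRange d' (map_zero d') := rfl
  rw [h8, Finsupp.sum_mapRange_index (by intro a; rw [map_zero, TensorProduct.zero_tmul]),
    Finsupp.sum, Finsupp.sum, map_sum]
  refine Finset.sum_congr rfl fun a _ => ?_
  have h9 : β (r a) * α a = (Tw.mk d (d' (r a))) ⊗ₜ[A] (d₀ a) := by
    have h10 : β (r a) = (Tw.mk d (d' (r a))) ⊗ₜ[A] (1 : D) := rfl
    have h11 : α a = (1 : Tw d) ⊗ₜ[A] (d₀ a) := rfl
    rw [h10, h11, Algebra.TensorProduct.tmul_mul_tmul, mul_one, one_mul]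
  rw [h9, LinearMap.lTensor_tmul]

/-- The family `a ↦ d₀ a` modulo a stable ideal is stable. -/
theorem stable_of_isEquivRel (hd₀ : d₀.Flat) (hd₁ : (algebraMap A D).Flat)
    (n : Ideal A) (hn : StableIdeal d₀ (algebraMap A D) n)
    (heq : IsEquivRel d₀ (algebraMap A D))
    (p : D →ₗ[A] M) (hp : ∀ x, p x = 0 ↔ x ∈ n.map (algebraMap A D)) (hnM : ∀ a ∈ n, ∀ x : M, a • x = 0) :
    Stable d₀ (algebraMap A D) (fun a => p (d₀ a)) := by
  intro t
  constructor
  · intro ht
    have h := mem_span_of_relMap_eq_zero d₀ hd₀ _ t ht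
    have hle : Submodule.span D (mapC d₀ ''
        (LinearMap.ker (Finsupp.linearCombination A (fun a => p (d₀ a))) : Set (A →₀ A))) ≤
        LinearMap.ker (relMap (algebraMap A D) (fun a => p (d₀ a))) := by
      rw [Submodule.span_le]
      rintro _ ⟨r, hr, rfl⟩
      exact relMap_mapC_of_rel n hn heq p hp hnM (algebraMap A D) d₀
        (fun Λ _ ψ => (heq Λ).symm (Rel.of_hom ψ)) r hr
    exact hle h
  · intro ht
    have h := mem_span_of_relMap_eq_zero (algebraMap A D) hd₁ _ t ht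
    have hle : Submodule.span D (mapC (algebraMap A D) ''
        (LinearMap.ker (Finsupp.linearCombination A (fun a => p (d₀ a))) : Set (A →₀ A))) ≤
        LinearMap.ker (relMap d₀ (fun a => p (d₀ a))) := by
      rw [Submodule.span_le]
      rintro _ ⟨r, hr, rfl⟩
      exact relMap_mapC_of_rel n hn heq p hp hnM d₀ (algebraMap A D)
        (fun Λ _ ψ => Rel.of_hom ψ) r hr
    exact hle h

end

end Groth.Agent.GrpQ.H777.Stab
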