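import Mathlib.RingTheory.Flat.Stability
import Mathlib.RingTheory.RingHom.Flat
import Mathlib.RingTheory.Flat.FaithfullyFlat.Algebra
import Mathlib.RingTheory.LocalRing.Module
import Mathlib.LinearAlgebra.LinearIndependent.Lemmas

/-!
# Stable families

`d : A → D` a ring homomorphism, `m : J → M` a family in an `A`-module.  `IsRel d m t` says that the
finitely supported family `t : J → D` is a linear relation between the elements `1 ⊗ m j` of the base
change of `M` along `d`.  For two flat homomorphisms `d₀ d₁ : A → D` a family is stable when the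
two notions agree.
-/

set_option autoImplicit false

open TensorProduct

namespace Groth.Agent.GrpQ.H777.Stab

/-- `D` seen as an `A`-algebra through `d`. -/
def Tw {A D : Type*} [CommRing A] [CommRing D] (_d : A →+* D) : Type _ := D

section

variable {A D : Type*} [CommRing A] [CommRing D] (d : A →+* D)

instance : CommRing (Tw d) := inferInstanceAs (CommRing D)

instance : Algebra A (Tw d) := d.toAlgebra

instance : Algebra D (Tw d) := Algebra.id D

/-- the identity `D → Tw d` -/
def Tw.mk : D ≃+* Tw d := RingEquiv.refl D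

theorem Tw.algebraMap_eq (a : A) : algebraMap A (Tw d) a = Tw.mk d (d a) := rfl

theorem Tw.smul_eq (a : A) (x : D) : a • (Tw.mk d x) = Tw.mk d (d a * x) := rfl

theorem Tw.smul_eq' (y : D) (x : D) : y • (Tw.mk d x) = Tw.mk d (y * x) := rfl

instance (M : Type*) [AddCommGroup M] [Module A M] : Module D (Tw d ⊗[A] M) :=
  inferInstanceAs (Module (Tw d) (Tw d ⊗[A] M))

theorem Tw.smul_tmul {M : Type*} [AddCommGroup M] [Module A M] (y x : D) (m : M) :
    y • ((Tw.mk d x) ⊗ₜ[A] m) = (Tw.mk d (y * x)) ⊗ₜ[A] m := rfl

end

variable {A D : Type*} [CommRing A] [CommRing D] {J : Type*} {M : Type*} [AddCommGroup M] [Module A M]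

/-- the `D`-linear combination of the `1 ⊗ m j` with coefficients `t` -/
noncomputable def relMap (d : A →+* D) (m : J → M) : (J →₀ D) →ₗ[D] (Tw d ⊗[A] M) :=
  Finsupp.lsum D fun j =>
    { toFun := fun x => (Tw.mk d x) ⊗ₜ[A] m j
      map_add' := fun x y => by rw [map_add, TensorProduct.add_tmul]
      map_smul' := fun x y => by rw [RingHom.id_apply, Tw.smul_tmul, smul_eq_mul] }

theorem relMap_single (d : A →+* D) (m : J → M) (j : J) (x : D) :
    relMap d m (Finsupp.single j x) = (Tw.mk d x) ⊗ₜ[A] m j := by
  simp [relMap]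

theorem relMap_apply (d : A →+* D) (m : J → M) (t : J →₀ D) :
    relMap d m t = t.sum fun j x => (Tw.mk d x) ⊗ₜ[A] m j := by
  simp [relMap]

/-- apply a ring homomorphism to the coefficients -/
noncomputable def mapC (d : A →+* D) : (J →₀ A) →+ (J →₀ D) :=
  Finsupp.mapRange.addMonoidHom d.toAddMonoidHom

@[simp] theorem mapC_apply (d : A →+* D) (a : J →₀ A) (j : J) : mapC d a j = d (a j) := rfl

theorem mapC_single (d : A →+* D) (j : J) (a : A) :
    mapC d (Finsupp.single j a) = Finsupp.single j (d a) := by
  simp [mapC]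

theorem mapC_smul (d : A →+* D) (a : A) (t : J →₀ A) :
    mapC d (a • t) = d a • mapC d t := by
  ext j; simp

theorem relMap_mapC (d : A →+* D) (m : J → M) (a : J →₀ A) :
    relMap d m (mapC d a) = (Tw.mk d 1) ⊗ₜ[A] (Finsupp.linearCombination A m a) := by
  induction a using Finsupp.induction_linear with
  | zero => simp
  | add f g hf hg => rw [map_add, map_add, hf, hg, map_add, TensorProduct.tmul_add]
  | single j x =>
    rw [mapC_single, relMap_single, Finsupp.linearCombination_single, ← TensorProduct.smul_tmul,
      Tw.smul_eq, mul_one]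

/-- a relation over `A` gives a relation over `D`. -/
theorem relMap_mapC_eq_zero (d : A →+* D) (m : J → M) (a : J →₀ A)
    (ha : Finsupp.linearCombination A m a = 0) : relMap d m (mapC d a) = 0 := by
  rw [relMap_mapC, ha, TensorProduct.tmul_zero]

/-- the comparison `D^(J) → D ⊗ A^(J)` -/
noncomputable def toTens (d : A →+* D) (J : Type*) : (J →₀ D) →+ (Tw d ⊗[A] (J →₀ A)) :=
  Finsupp.liftAddHom fun j =>
    { toFun := fun x => (Tw.mk d x) ⊗ₜ[A] (Finsupp.single j (1 : A))
      map_zero' := by rw [map_zero, TensorProduct.zero_tmul]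
      map_add' := fun x y => by rw [map_add, TensorProduct.add_tmul] }

theorem toTens_single (d : A →+* D) (j : J) (x : D) :
    toTens d J (Finsupp.single j x) = (Tw.mk d x) ⊗ₜ[A] (Finsupp.single j (1 : A)) := by
  simp [toTens]

/-- the comparison `D ⊗ A^(J) → D^(J)` -/
noncomputable def ofTens (d : A →+* D) (J : Type*) : (Tw d ⊗[A] (J →₀ A)) →+ (J →₀ D) :=
  TensorProduct.liftAddHom
    { toFun := fun x =>
        { toFun := fun a => ((Tw.mk d).symm x) • mapC d a
          map_zero' := by rw [map_zero, smul_zero]
          map_add' := fun a b => by rw [map_add, smul_add] }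
      map_zero' := AddMonoidHom.ext fun a => zero_smul D (mapC d a)
      map_add' := fun x y => AddMonoidHom.ext fun a =>
        add_smul ((Tw.mk d).symm x) ((Tw.mk d).symm y) (mapC d a) } (by
        intro r x a
        show ((Tw.mk d).symm (r • x)) • mapC d a = ((Tw.mk d).symm x) • mapC d (r • a)
        rw [mapC_smul, smul_smul]
        congr 1
        show d r * (Tw.mk d).symm x = _
        exact mul_comm _ _)

theorem ofTens_tmul (d : A →+* D) (x : D) (a : J →₀ A) :
    ofTens d J ((Tw.mk d x) ⊗ₜ[A] a) = x • mapC d a := rfl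

theorem ofTens_toTens (d : A →+* D) (t : J →₀ D) : ofTens d J (toTens d J t) = t := by
  induction t using Finsupp.induction_linear with
  | zero => rw [map_zero, map_zero]
  | add f g hf hg => rw [map_add, map_add, hf, hg]
  | single j x =>
    rw [toTens_single, ofTens_tmul, mapC_single, map_one, Finsupp.smul_single, smul_eq_mul, mul_one]

theorem lTensor_toTens (d : A →+* D) (m : J → M) (t : J →₀ D) :
    (Finsupp.linearCombination A m).lTensor (Tw d) (toTens d J t) = relMap d m t := by
  induction t using Finsupp.induction_linear with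
  | zero => rw [map_zero, map_zero, map_zero]
  | add f g hf hg => rw [map_add, map_add, hf, hg, map_add]
  | single j x => rw [toTens_single, LinearMap.lTensor_tmul, Finsupp.linearCombination_single,
      one_smul, relMap_single]

theorem ofTens_mem_span (d : A →+* D) (P : Submodule A (J →₀ A)) (z : Tw d ⊗[A] P) :
    ofTens d J (P.subtype.lTensor (Tw d) z) ∈ Submodule.span D (mapC d '' (P : Set (J →₀ A))) := by
  induction z using TensorProduct.induction_on with
  | zero => rw [map_zero, map_zero]; exact Submodule.zero_mem _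
  | add x y hx hy => rw [map_add, map_add]; exact Submodule.add_mem _ hx hy
  | tmul x p =>
    rw [LinearMap.lTensor_tmul]
    obtain ⟨x, rfl⟩ := (Tw.mk d).surjective x
    rw [ofTens_tmul]
    exact Submodule.smul_mem _ _ (Submodule.subset_span ⟨_, p.2, rfl⟩)

theorem exact_lTensor (d : A →+* D) (hd : d.Flat) (m : J → M) :
    Function.Exact ((LinearMap.ker (Finsupp.linearCombination A m)).subtype.lTensor (Tw d))
      ((Finsupp.linearCombination A m).lTensor (Tw d)) := by
  have hflat : Module.Flat A (Tw d) := hd
  have hex0 : Function.Exact (LinearMap.ker (Finsupp.linearCombination A m)).subtype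
      (Finsupp.linearCombination A m) := by
    rw [LinearMap.exact_iff, Submodule.range_subtype]
  have hex := Module.Flat.lTensor_exact (R := A) (M := Tw d)
    (N := LinearMap.ker (Finsupp.linearCombination A m)) (N' := J →₀ A)
    (N'' := M) (f := (LinearMap.ker (Finsupp.linearCombination A m)).subtype)
    (g := Finsupp.linearCombination A m) hex0
  exact hex

/-- By flatness, every relation over `D` is a combination of relations over `A`. -/
theorem mem_span_of_relMap_eq_zero (d : A →+* D) (hd : d.Flat) (m : J → M) (t : J →₀ D)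
    (ht : relMap d m t = 0) :
    t ∈ Submodule.span D (mapC d '' (LinearMap.ker (Finsupp.linearCombination A m) : Set (J →₀ A))) := by
  obtain ⟨z, hz⟩ := (exact_lTensor d hd m (toTens d J t)).mp (by rw [lTensor_toTens, ht])
  have h := ofTens_mem_span d _ z
  rw [hz, ofTens_toTens] at h
  exact h

/-- A family is stable (for the pair `d₀, d₁`) if the relations over `D` between its members agree
after the two base changes. -/
def Stable (d₀ d₁ : A →+* D) (m : J → M) : Prop :=
  ∀ t : J →₀ D, relMap d₀ m t = 0 ↔ relMap d₁ m t = 0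

/-- a stable ideal -/
def StableIdeal (d₀ d₁ : A →+* D) (I : Ideal A) : Prop := I.map d₀ = I.map d₁

variable {d₀ d₁ : A →+* D}

theorem Stable.symm {m : J → M} (h : Stable d₀ d₁ m) : Stable d₁ d₀ m := fun t => (h t).symm

theorem StableIdeal.symm {I : Ideal A} (h : StableIdeal d₀ d₁ I) : StableIdeal d₁ d₀ I := Eq.symm h

theorem relMap_comp (d : A →+* D) (m : J → M) {J' : Type*} (f : J' → J) (t : J' →₀ D) :
    relMap d (m ∘ f) t = relMap d m (t.mapDomain f) := by
  induction t using Finsupp.induction_linear with
  | zero => simp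
  | add x y hx hy => rw [map_add, Finsupp.mapDomain_add, map_add, hx, hy]
  | single j x => rw [relMap_single, Finsupp.mapDomain_single, relMap_single, Function.comp]

theorem Stable.comp {m : J → M} (h : Stable d₀ d₁ m) {J' : Type*} (f : J' → J) :
    Stable d₀ d₁ (m ∘ f) := fun t => by
  rw [relMap_comp, relMap_comp]; exact h _

/-- the ideal of the `j`-th coefficients of the relations -/
noncomputable def coefIdeal (m : J → M) (j : J) : Ideal A :=
  Submodule.map (Finsupp.lapply j) (LinearMap.ker (Finsupp.linearCombination A m))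

theorem mem_coefIdeal (m : J → M) (j : J) (a : A) :
    a ∈ coefIdeal m j ↔ ∃ r : J →₀ A, Finsupp.linearCombination A m r = 0 ∧ r j = a := Iff.rfl

/-- half of the stability of the ideal of coefficients -/
theorem map_le_of_stable (hd₁ : d₁.Flat) {m : J → M} (h : Stable d₀ d₁ m) (j : J) :
    (coefIdeal m j : Ideal A).map d₀ ≤ (coefIdeal m j : Ideal A).map d₁ := by
  rw [Ideal.map_le_iff_le_comap]
  rintro _ ⟨a, ha, rfl⟩
  rw [Ideal.mem_comap]
  have h1 : relMap d₁ m (mapC d₀ a) = 0 := (h _).mp (relMap_mapC_eq_zero d₀ m a ha)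
  have h2 := mem_span_of_relMap_eq_zero d₁ hd₁ m _ h1
  have h3 : ∀ x ∈ Submodule.span D (mapC d₁ ''
      (LinearMap.ker (Finsupp.linearCombination A m) : Set (J →₀ A))),
      x j ∈ (coefIdeal m j : Ideal A).map d₁ := by
    intro x hx
    induction hx using Submodule.span_induction with
    | mem x hx =>
      obtain ⟨y, hy, rfl⟩ := hx
      exact Ideal.mem_map_of_mem _ ⟨y, hy, rfl⟩
    | zero => exact Ideal.zero_mem _
    | add x y _ _ hx hy => exact Ideal.add_mem _ hx hy
    | smul r x _ hx => exact Ideal.mul_mem_left _ _ hx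
  exact h3 _ h2

/-- The ideal of the `j`-th coefficients of the relations of a stable family is stable. -/
theorem Stable.stableIdeal (hd₀ : d₀.Flat) (hd₁ : d₁.Flat) {m : J → M} (h : Stable d₀ d₁ m) (j : J) :
    StableIdeal d₀ d₁ (coefIdeal m j) :=
  le_antisymm (map_le_of_stable hd₁ h j) (map_le_of_stable hd₀ h.symm j)

end Groth.Agent.GrpQ.H777.Stab
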