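import Groth.Agent.GrpQ.H777.Stab

/-!
# Bases of stable families modulo a maximal stable ideal
-/

set_option autoImplicit false

open TensorProduct

namespace Groth.Agent.GrpQ.H777.Stab

variable {A D : Type*} [CommRing A] [CommRing D] {J : Type*} {M : Type*} [AddCommGroup M] [Module A M]

variable {d₀ d₁ : A →+* D}

/-- relation between combinations -/
theorem relMap_combo (d : A →+* D) (m : J → M) {K : Type*} (c : K → J →₀ A) (t : K →₀ D) :
    relMap d (fun k => Finsupp.linearCombination A m (c k)) t =
      relMap d m (t.sum fun k x => x • mapC d (c k)) := by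
  induction t using Finsupp.induction_linear with
  | zero => simp
  | add f g hf hg =>
    rw [map_add, hf, hg, ← map_add]
    congr 1
    rw [Finsupp.sum_add_index']
    · intro k; exact zero_smul _ _
    · intro k x y; exact add_smul _ _ _
  | single k x =>
    rw [relMap_single, Finsupp.sum_single_index (by exact zero_smul D (mapC d (c k))), map_smul,
      relMap_mapC, Tw.smul_tmul, mul_one]

theorem tmul_eq_zero_of_mem (d : A →+* D) (n : Ideal A) (hn : ∀ a ∈ n, ∀ x : M, a • x = 0)
    (y : D) (hy : y ∈ n.map d) (x : M) : (Tw.mk d y) ⊗ₜ[A] x = 0 := by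
  induction hy using Submodule.span_induction with
  | mem z hz =>
    obtain ⟨a, ha, rfl⟩ := hz
    have : Tw.mk d (d a) = a • (Tw.mk d 1) := by rw [Tw.smul_eq, mul_one]
    rw [this, TensorProduct.smul_tmul, hn a ha, TensorProduct.tmul_zero]
  | zero => rw [map_zero, TensorProduct.zero_tmul]
  | add a b _ _ ha hb => rw [map_add, TensorProduct.add_tmul, ha, hb, add_zero]
  | smul r a _ ha => rw [smul_eq_mul, ← Tw.smul_tmul, ha, smul_zero]

theorem relMap_eq_zero_of_mem (d : A →+* D) (n : Ideal A) (hn : ∀ a ∈ n, ∀ x : M, a • x = 0)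
    (m : J → M) (t : J →₀ D) (ht : ∀ j, t j ∈ n.map d) : relMap d m t = 0 := by
  rw [relMap_apply, Finsupp.sum]
  exact Finset.sum_eq_zero fun j _ => tmul_eq_zero_of_mem d n hn _ (ht j) _

/-- Combinations of a stable family whose coefficients are invariant modulo a stable ideal
killing the module form a stable family. -/
theorem Stable.combo (n : Ideal A) (hn : ∀ a ∈ n, ∀ x : M, a • x = 0)
    {m : J → M} (hm : Stable d₀ d₁ m) {K : Type*} (c : K → J →₀ A)
    (hc : ∀ k j, d₀ (c k j) - d₁ (c k j) ∈ n.map d₁) :
    Stable d₀ d₁ (fun k => Finsupp.linearCombination A m (c k)) := by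
  intro t
  rw [relMap_combo, relMap_combo, hm]
  have h : relMap d₁ m ((t.sum fun k x => x • mapC d₀ (c k)) - t.sum fun k x => x • mapC d₁ (c k)) = 0 := by
    refine relMap_eq_zero_of_mem d₁ n hn m _ fun j => ?_
    rw [← Finsupp.sum_sub, Finsupp.sum, Finsupp.finsetSum_apply]
    refine Ideal.sum_mem _ fun k _ => ?_
    rw [Finsupp.sub_apply, Finsupp.smul_apply, Finsupp.smul_apply, mapC_apply, mapC_apply, ← smul_sub]
    exact Ideal.mul_mem_left _ _ (hc k j)
  rw [map_sub, sub_eq_zero] at h
  rw [h]

/-- coefficients of relations over `D` of an independent family -/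
theorem coef_mem_of_relMap_eq_zero (d : A →+* D) (hd : d.Flat) (n : Ideal A) (m : J → M)
    (hm : ∀ r : J →₀ A, Finsupp.linearCombination A m r = 0 → ∀ j, r j ∈ n)
    (t : J →₀ D) (ht : relMap d m t = 0) (j : J) : t j ∈ n.map d := by
  have key : ∀ x ∈ Submodule.span D (mapC d ''
      (LinearMap.ker (Finsupp.linearCombination A m) : Set (J →₀ A))), x j ∈ n.map d := by
    intro x hx
    induction hx using Submodule.span_induction with
    | mem x hx =>
      obtain ⟨y, hy, rfl⟩ := hx
      exact Ideal.mem_map_of_mem _ (hm y hy j)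
    | zero => exact Ideal.zero_mem _
    | add x y _ _ hx hy => exact Ideal.add_mem _ hx hy
    | smul r x _ hx => exact Ideal.mul_mem_left _ _ hx
  exact key _ (mem_span_of_relMap_eq_zero d hd m _ ht)

/-- linear independence modulo an ideal killing the module, in terms of relations over `A` -/
theorem rel_mem_of_linearIndependent (n : Ideal A) [Module (A ⧸ n) M] [IsScalarTower A (A ⧸ n) M]
    {m : J → M} (hm : LinearIndependent (A ⧸ n) m) (r : J →₀ A)
    (hr : Finsupp.linearCombination A m r = 0) (j : J) : r j ∈ n := by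
  rw [linearIndependent_iff] at hm
  have h := hm (r.mapRange (Ideal.Quotient.mk n) (map_zero _)) (by
    rw [Finsupp.linearCombination_apply, Finsupp.sum_mapRange_index (by intro; exact zero_smul _ _), ← hr,
      Finsupp.linearCombination_apply]
    refine Finsupp.sum_congr fun i _ => ?_
    rw [← algebraMap_smul (A ⧸ n) (r i) (m i)]
    rfl)
  have h2 := DFunLike.congr_fun h j
  rwa [Finsupp.mapRange_apply, Finsupp.zero_apply, Ideal.Quotient.eq_zero_iff_mem] at h2

/-- the coefficients of the members of a stable family with respect to an independent subfamily are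
invariant modulo the ideal -/
theorem Stable.coef_sub_mem (hd₁ : d₁.Flat) (n : Ideal A) {m : J → M} (hm : Stable d₀ d₁ m) (s : Set J)
    (hs : ∀ r : s →₀ A, Finsupp.linearCombination A (fun i : s => m i) r = 0 → ∀ j, r j ∈ n)
    (j : J) (c : s →₀ A) (hc : m j = Finsupp.linearCombination A (fun i : s => m i) c) (i : s) :
    d₀ (c i) - d₁ (c i) ∈ n.map d₁ := by
  classical
  have key : ∀ d : A →+* D, relMap d m (Finsupp.single j 1 - (mapC d c).mapDomain (↑)) = 0 := by
    intro d
    rw [map_sub, ← relMap_comp, relMap_single]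
    have : relMap d (m ∘ ((↑) : s → J)) (mapC d c) = (Tw.mk d 1) ⊗ₜ[A] (m j) := by
      rw [relMap_mapC, hc]; rfl
    rw [this, sub_self]
  have h0 := (hm _).mp (key d₀)
  have h1 := key d₁
  have h2 : relMap d₁ (m ∘ ((↑) : s → J)) (mapC d₀ c - mapC d₁ c) = 0 := by
    rw [relMap_comp, Finsupp.mapDomain_sub, map_sub]
    rw [map_sub] at h0 h1
    rw [sub_eq_zero] at h0 h1 ⊢
    rw [← h0, ← h1]
  have h3 := coef_mem_of_relMap_eq_zero d₁ hd₁ n _ hs _ h2 i
  rwa [Finsupp.sub_apply, mapC_apply, mapC_apply] at h3

/-- Existence of bases: a stable family in a module killed by a maximal stable ideal contains a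
basis of its span, modulo the ideal. -/
theorem Stable.exists_basis (hd₀ : d₀.Flat) (hd₁ : d₁.Flat) (n : Ideal A)
    (hmax : ∀ I : Ideal A, StableIdeal d₀ d₁ I → n ≤ I → I = n ∨ I = ⊤)
    [Module (A ⧸ n) M] [IsScalarTower A (A ⧸ n) M] {m : J → M} (hm : Stable d₀ d₁ m) :
    ∃ s : Set J, LinearIndependent (A ⧸ n) (fun i : s => m i) ∧
      ∀ j, ∃ c : s →₀ A, m j = Finsupp.linearCombination A (fun i : s => m i) c := by
  classical
  obtain ⟨s, hs, hmx⟩ := exists_maximal_linearIndepOn (A ⧸ n) m
  refine ⟨s, hs, fun j => ?_⟩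
  by_cases hj : j ∈ s
  · exact ⟨Finsupp.single ⟨j, hj⟩ 1, by simp⟩
  obtain ⟨a, ha, hspan⟩ := hmx j hj
  obtain ⟨a, rfl⟩ := Ideal.Quotient.mk_surjective a
  have ha' : a ∉ n := fun h => ha (Ideal.Quotient.eq_zero_iff_mem.mpr h)
  let f : Option s → J := fun o => o.elim j (↑)
  have hst := (hm.comp f).stableIdeal hd₀ hd₁ none
  -- transform a membership into a relation
  have key : ∀ x : A, (∃ r : Option s →₀ A, Finsupp.linearCombination A (m ∘ f) r = 0 ∧ r none = x) ↔
      x • m j ∈ Submodule.span A (m '' s) := by
    intro x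
    rw [show m '' s = Set.range (fun i : s => m i) by ext y; simp, 
      Finsupp.mem_span_range_iff_exists_finsupp]
    constructor
    · rintro ⟨r, hr, rfl⟩
      refine ⟨-r.some, ?_⟩
      have h1 : Finsupp.linearCombination A (m ∘ f) r = r none • m j +
          Finsupp.linearCombination A (fun i : s => m i) r.some := by
        rw [Finsupp.linearCombination_option]
        rfl
      rw [h1] at hr
      rw [← Finsupp.linearCombination_apply, map_neg]
      exact neg_eq_of_add_eq_zero_left hr
    · rintro ⟨c, hc⟩
      refine ⟨Finsupp.single none x - c.embDomain Function.Embedding.some, ?_, ?_⟩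
      · rw [map_sub, Finsupp.linearCombination_single, Finsupp.linearCombination_embDomain]
        rw [← Finsupp.linearCombination_apply] at hc
        exact sub_eq_zero.mpr hc.symm
      · simp
  have hle : n ≤ coefIdeal (m ∘ f) none := by
    intro x hx
    rw [mem_coefIdeal, key]
    have : x • m j = 0 := by
      rw [← algebraMap_smul (A ⧸ n) x (m j)]
      have : algebraMap A (A ⧸ n) x = 0 := Ideal.Quotient.eq_zero_iff_mem.mpr hx
      rw [this, zero_smul]
    rw [this]
    exact Submodule.zero_mem _
  have hmem : a ∈ coefIdeal (m ∘ f) none := by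
    rw [mem_coefIdeal, key]
    have h1 : (Ideal.Quotient.mk n a) • m j = a • m j := algebraMap_smul (A ⧸ n) a (m j)
    rw [h1] at hspan
    have h2 : ∀ y ∈ Submodule.span (A ⧸ n) (m '' s), y ∈ Submodule.span A (m '' s) := by
      intro y hy
      induction hy using Submodule.span_induction with
      | mem x hx => exact Submodule.subset_span hx
      | zero => exact Submodule.zero_mem _
      | add x y _ _ hx hy => exact Submodule.add_mem _ hx hy
      | smul r x _ hx =>
        obtain ⟨r, rfl⟩ := Ideal.Quotient.mk_surjective r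
        have h3 : (Ideal.Quotient.mk n r) • x = r • x := algebraMap_smul (A ⧸ n) r x
        rw [h3]
        exact Submodule.smul_mem _ _ hx
    exact h2 _ hspan
  rcases hmax _ hst hle with h | h
  · rw [h] at hmem
    exact absurd hmem ha'
  · have h1 : (1 : A) ∈ coefIdeal (m ∘ f) none := by rw [h]; trivial
    rw [mem_coefIdeal, key, one_smul, show m '' s = Set.range (fun i : s => m i) by ext y; simp,
      Finsupp.mem_span_range_iff_exists_finsupp] at h1
    obtain ⟨c, hc⟩ := h1
    exact ⟨c, by rw [Finsupp.linearCombination_apply, hc]⟩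

end Groth.Agent.GrpQ.H777.Stab
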